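import Groth.Agent.H27DI.System

/-!
# Dimensions: the columns bound the total cohomology, the semilinear injection compares them
-/

set_option autoImplicit false
universe u

namespace Groth.Agent.H27DI

theorem finrank_range_le_add {k V H C : Type*} [Field k] [AddCommGroup V] [Module k V] [AddCommGroup H] [Module k H]
    [AddCommGroup C] [Module k C] [Module.Finite k C] (π : V →ₗ[k] H) (g : V →ₗ[k] C) (V₁ : Submodule k V)
    (hker : LinearMap.ker g ≤ V₁ ⊔ LinearMap.ker π) [Module.Finite k (V₁.map π)] :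
    Module.Finite k (LinearMap.range π) ∧
      Module.finrank k (LinearMap.range π) ≤ Module.finrank k (V₁.map π) + Module.finrank k C := by
  let G : Submodule k (LinearMap.range π) := (V₁.map π).comap (LinearMap.range π).subtype
  let q : V →ₗ[k] LinearMap.range π ⧸ G := G.mkQ ∘ₗ π.rangeRestrict
  have hq : LinearMap.ker g ≤ LinearMap.ker q := fun v hv => by
    obtain ⟨a, ha, b, hb, rfl⟩ := Submodule.mem_sup.1 (hker hv)
    rw [LinearMap.mem_ker, LinearMap.comp_apply, Submodule.mkQ_apply, Submodule.Quotient.mk_eq_zero]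
    show π (a + b) ∈ V₁.map π
    rw [map_add, LinearMap.mem_ker.1 hb, add_zero]
    exact Submodule.mem_map_of_mem ha
  let q' : V ⧸ LinearMap.ker g →ₗ[k] LinearMap.range π ⧸ G := (LinearMap.ker g).liftQ q hq
  have hs : Function.Surjective q' := fun y => by
    obtain ⟨⟨_, v, rfl⟩, rfl⟩ := G.mkQ_surjective y
    exact ⟨Submodule.Quotient.mk v, rfl⟩
  haveI : Module.Finite k (V ⧸ LinearMap.ker g) := Module.Finite.equiv g.quotKerEquivRange.symm
  haveI : Module.Finite k (LinearMap.range π ⧸ G) := Module.Finite.of_surjective q' hs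
  let e : G ≃ₗ[k] V₁.map π := Submodule.comapSubtypeEquivOfLe (fun _ ⟨a, _, ha⟩ => ⟨a, ha⟩)
  haveI : Module.Finite k G := Module.Finite.equiv e.symm
  haveI : Module.Finite k (LinearMap.range π) := Module.Finite.of_submodule_quotient G
  refine ⟨inferInstance, ?_⟩
  rw [← Submodule.finrank_quotient_add_finrank G, e.finrank_eq, add_comm]
  refine Nat.add_le_add_left ((q'.finrank_le_finrank_of_surjective hs).trans ?_) _
  rw [g.quotKerEquivRange.finrank_eq]
  exact Submodule.finrank_le _

/-- Semilinear injections over an automorphism of the field do not decrease dimensions. -/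
theorem finrank_le_of_semilinear {k : Type u} {V H : Type u} [Field k] [AddCommGroup V] [Module k V] [AddCommGroup H]
    [Module k H] [Module.Finite k H] (σ : k →+* k) (hσ : Function.Bijective σ) (f : V →+ H)
    (hf : ∀ c v, f (c • v) = σ c • f v) (hinj : Function.Injective f) :
    Module.finrank k V ≤ Module.finrank k H := by
  let R : Submodule k H :=
    { f.range with
      smul_mem' := fun c _ ⟨v, hv⟩ => by
        obtain ⟨c', rfl⟩ := hσ.2 c
        exact ⟨c' • v, by rw [hf, hv]⟩ }
  let j : V ≃+ R := AddEquiv.ofBijective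
    (AddMonoidHom.mk' (fun v => (⟨f v, v, rfl⟩ : R)) fun x y => Subtype.ext (map_add f x y))
    ⟨fun x y h => hinj (congrArg Subtype.val h), fun ⟨_, v, rfl⟩ => ⟨v, rfl⟩⟩
  have h := rank_eq_of_equiv_equiv σ j hσ fun r m => Subtype.ext (hf r m)
  have h2 : Module.finrank k V = Module.finrank k R := congrArg Cardinal.toNat h
  rw [h2]
  exact Submodule.finrank_le R

variable {ι : Type u} [DecidableEq ι] {k : Type u} [Field k]

namespace Sys

variable {Y : Sys.{u} ι} [∀ s a, Module k (Y.N s a)]

/-- The differential and the restrictions are linear. -/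
structure IsLin (k : Type u) [Field k] (Y : Sys.{u} ι) [∀ s a, Module k (Y.N s a)] : Prop where
  d : ∀ s a (c : k) (x : Y.N s a), Y.d s a (c • x) = c • Y.d s a x
  res : ∀ {s t : Finset ι} (h : s ⊆ t) a (c : k) (x : Y.N s a), Y.res h a (c • x) = c • Y.res h a x

variable (hY : Y.IsLin k)

include hY in
theorem loc_smul (c : k) (y : Y.Coch) (s : Finset ι) (a : ℕ) (α : List {i // i ∈ s}) :
    loc (c • y) s a α = c • loc y s a α := hY.res _ _ c _

/-- The total differential as a linear map. -/
noncomputable def Dl (hY : Y.IsLin k) : Y.Coch →ₗ[k] Y.Coch where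
  toFun := D
  map_add' := D_add
  map_smul' c y := by
    funext a γ
    have h := tot_map (Y.d γ.toFinset) (Y.d γ.toFinset) id (fun b => DistribSMul.toAddMonoidHom _ c)
      (fun b x => (hY.d _ b c x).symm) (liftL γ) (loc y γ.toFinset) a
    rw [List.map_id] at h
    simp only [List.map_id] at h
    refine Eq.trans ?_ h.symm
    show tot _ _ (loc (c • y) γ.toFinset) a = _
    congr 1
    funext b α
    exact loc_smul hY c y _ b α

/-- The Čech differential as a linear map. -/
noncomputable def δl (hY : Y.IsLin k) : Y.Coch →ₗ[k] Y.Coch where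
  toFun := δ
  map_add' := δ_add
  map_smul' c y := by
    funext a γ
    show dlist _ (loc (c • y) γ.toFinset a) = c • dlist _ (loc y γ.toFinset a)
    rw [show loc (c • y) γ.toFinset a = fun α => DistribSMul.toAddMonoidHom _ c (loc y γ.toFinset a α) from
      funext fun α => loc_smul hY c y _ a α, dlist_map]
    rfl

variable (k Y) in
/-- Cochains of one degree as a submodule. -/
def degSub (n : ℕ) : Submodule k Y.Coch where
  carrier := {y | Y.IsDeg n y}
  add_mem' hy hz := isDeg_add hy hz
  zero_mem' := ⟨fun _ _ _ => rfl, fun _ => rfl⟩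
  smul_mem' c y hy := ⟨fun a γ h => by show c • y a γ = 0; rw [hy.1 a γ h, smul_zero],
    fun a => by show c • y a [] = 0; rw [hy.2 a]; exact smul_zero _⟩

variable (k Y) in
/-- Cochains in one column. -/
def colSub (a₀ n : ℕ) : Submodule k Y.Coch where
  carrier := {y | Y.IsDeg n y ∧ ∀ a γ, a ≠ a₀ → y a γ = 0}
  add_mem' hy hz := ⟨isDeg_add hy.1 hz.1, fun a γ h => by
    show _ + _ = (0 : Y.N γ.toFinset a); rw [hy.2 a γ h, hz.2 a γ h, add_zero]⟩
  zero_mem' := ⟨⟨fun _ _ _ => rfl, fun _ => rfl⟩, fun _ _ _ => rfl⟩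
  smul_mem' c y hy := ⟨(degSub k Y n).smul_mem c hy.1, fun a γ h => by
    show c • y a γ = 0; rw [hy.2 a γ h, smul_zero]⟩

/-- The part of a cochain in one column. -/
def pr (a₀ : ℕ) : Y.Coch →ₗ[k] Y.Coch where
  toFun y a γ := if a = a₀ then y a γ else 0
  map_add' y z := by funext a γ; show ite _ (y a γ + z a γ) _ = ite _ _ _ + ite _ _ _; split_ifs <;> simp
  map_smul' c y := by funext a γ; show ite _ (c • y a γ) _ = c • ite _ _ _; split_ifs <;> simp

theorem pr_apply (a₀ : ℕ) (y : Y.Coch) (a : ℕ) (γ : List ι) :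
    (pr (k := k) a₀ y) a γ = if a = a₀ then y a γ else 0 := rfl

theorem pr_mem (a₀ : ℕ) {n : ℕ} {y : Y.Coch} (hy : Y.IsDeg n y) : pr (k := k) a₀ y ∈ colSub k Y a₀ n :=
  ⟨⟨fun a γ h => by rw [pr_apply]; split_ifs <;> simp [hy.1 a γ h],
    fun a => by rw [pr_apply]; split_ifs; exacts [hy.2 a, rfl]⟩, fun a γ h => if_neg h⟩

theorem pr_of_mem {a₀ n : ℕ} {y : Y.Coch} (hy : y ∈ colSub k Y a₀ n) : pr (k := k) a₀ y = y :=
  funext fun a => funext fun γ => by
    rw [pr_apply]; split_ifs with h
    · rfl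
    · exact (hy.2 a γ h).symm

theorem pr_δ (a₀ : ℕ) (y : Y.Coch) : pr (k := k) a₀ (δ y) = δ (pr (k := k) a₀ y) := by
  funext a γ
  rw [pr_apply]
  show _ = dlist (liftL γ) (loc (pr (k := k) a₀ y) γ.toFinset a)
  split_ifs with h
  · show dlist _ (loc y γ.toFinset a) = _
    congr 1
    funext α
    rw [loc, loc, pr_apply, if_pos h]
  · rw [show loc (pr (k := k) a₀ y) γ.toFinset a = fun _ => 0 from funext fun α => loc_eq_zero (if_neg h), dlist_zero]

/-- Cocycles of one column. -/
noncomputable def colZ (hY : Y.IsLin k) (a n : ℕ) : Submodule k Y.Coch := colSub k Y a n ⊓ LinearMap.ker (δl hY)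

/-- Coboundaries of one column. -/
noncomputable def colB (hY : Y.IsLin k) (a n : ℕ) : Submodule k Y.Coch := (colSub k Y a (n - 1)).map (δl hY)

/-- Cohomology of one column. -/
abbrev colH (hY : Y.IsLin k) (a n : ℕ) : Type _ := colZ hY a n ⧸ (colB hY a n).comap (colZ hY a n).subtype

/-- Cocycles of the total complex. -/
noncomputable def totZ (hY : Y.IsLin k) (n : ℕ) : Submodule k Y.Coch := degSub k Y n ⊓ LinearMap.ker (Dl hY)

/-- Coboundaries of the total complex. -/
noncomputable def totB (hY : Y.IsLin k) (n : ℕ) : Submodule k Y.Coch := (degSub k Y (n - 1)).map (Dl hY)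

/-- Cohomology of the total complex. -/
abbrev totH (hY : Y.IsLin k) (n : ℕ) : Type _ := totZ hY n ⧸ (totB hY n).comap (totZ hY n).subtype

/-- Cochains vanishing in columns below `c`. -/
def fil (k : Type u) [Field k] (Y : Sys.{u} ι) [∀ s a, Module k (Y.N s a)] (c : ℕ) : Submodule k Y.Coch where
  carrier := {y | ∀ a γ, a < c → y a γ = 0}
  add_mem' hy hz a γ h := by show _ + _ = (0 : Y.N γ.toFinset a); rw [hy a γ h, hz a γ h, add_zero]
  zero_mem' _ _ _ := rfl
  smul_mem' c y hy a γ h := by show c • y a γ = 0; rw [hy a γ h, smul_zero]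

/-- The columns bound the total cohomology. -/
theorem finrank_totH_le (l : ℕ) (hfin : ∀ a ≤ l, Module.Finite k (colH hY a (l + 1))) :
    Module.Finite k (totH hY (l + 1)) ∧
      Module.finrank k (totH hY (l + 1)) ≤ ∑ a ∈ Finset.range (l + 1), Module.finrank k (colH hY a (l + 1)) := by
  set Z := totZ hY (l + 1)
  set π : Z →ₗ[k] totH hY (l + 1) := ((totB hY (l + 1)).comap Z.subtype).mkQ
  let W : ℕ → Submodule k Z := fun c => (fil k Y c).comap Z.subtype
  suffices ∀ j c, c + j = l + 1 → Module.Finite k ((W c).map π) ∧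
      Module.finrank k ((W c).map π) ≤ ∑ a ∈ Finset.Ico c (l + 1), Module.finrank k (colH hY a (l + 1)) by
    obtain ⟨h1, h2⟩ := this (l + 1) 0 (zero_add _)
    have hW : (W 0).map π = ⊤ := by
      rw [eq_top_iff]
      intro x _
      obtain ⟨y, rfl⟩ := Submodule.mkQ_surjective _ x
      exact ⟨y, fun a γ h => absurd h (Nat.not_lt_zero a), rfl⟩
    rw [hW] at h1 h2
    haveI hfin0 : Module.Finite k (totH hY (l + 1)) := Module.Finite.equiv Submodule.topEquiv
    rw [finrank_top, ← Finset.range_eq_Ico] at h2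
    exact ⟨hfin0, h2⟩
  intro j
  induction j with
  | zero =>
    intro c hc
    have hW : W c = ⊥ := by
      rw [eq_bot_iff]
      rintro ⟨y, hy, hD⟩ hyc
      rw [Submodule.mem_bot]
      refine Subtype.ext (funext fun a => funext fun γ => ?_)
      rcases eq_or_ne γ [] with rfl | hγ
      · exact hy.2 a
      rcases lt_or_ge a c with ha | ha
      · exact hyc a γ ha
      · refine hy.1 a γ ?_
        have := List.length_pos_of_ne_nil hγ
        omega
    rw [hW, Submodule.map_bot]
    exact ⟨inferInstance, by simp⟩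
  | succ j ih =>
    intro c hc
    obtain ⟨h1, h2⟩ := ih (c + 1) (by omega)
    haveI := h1
    haveI := hfin c (by omega)
    let g : W c →ₗ[k] colH hY c (l + 1) :=
      ((colB hY c (l + 1)).comap (colZ hY c (l + 1)).subtype).mkQ ∘ₗ
        LinearMap.codRestrict (colZ hY c (l + 1)) (pr (k := k) c ∘ₗ Z.subtype ∘ₗ (W c).subtype) (fun y => by
          obtain ⟨⟨y, hy, hD⟩, hyc⟩ := y
          refine ⟨pr_mem c hy, ?_⟩
          show δ (pr (k := k) c y) = 0
          rw [← pr_δ]
          funext a γ
          rw [pr_apply]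
          split_ifs with h
          · subst h
            have e : D y a γ = 0 := congrFun (congrFun hD a) γ
            cases a with
            | zero => exact e
            | succ b =>
              have e2 : D y (b + 1) γ = δ y (b + 1) γ := by
                show tot _ _ _ (b + 1) = _
                rw [tot_succ, loc_liftL, show y b γ = 0 from hyc b γ (Nat.lt_succ_self b), map_zero, smul_zero, sub_zero]
                rfl
              rw [← e2]; exact e
          · rfl)
    let W1 : Submodule k (W c) := (W (c + 1)).comap (W c).subtype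
    have hmap : W1.map (π ∘ₗ (W c).subtype) = (W (c + 1)).map π := by
      rw [Submodule.map_comp, Submodule.map_comap_eq, Submodule.range_subtype, inf_eq_right.2]
      exact fun y hy a γ h => hy a γ (Nat.lt_succ_of_lt h)
    have hker : LinearMap.ker g ≤ W1 ⊔ LinearMap.ker (π ∘ₗ (W c).subtype) := by
      rintro ⟨⟨y, hy, hD⟩, hyc⟩ hg
      rw [LinearMap.mem_ker, LinearMap.comp_apply, Submodule.mkQ_apply, Submodule.Quotient.mk_eq_zero,
        Submodule.mem_comap] at hg
      obtain ⟨w, hw, hwe⟩ := hg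
      rw [Nat.add_sub_cancel] at hw
      have hwc : ∀ a γ, a ≠ c → w a γ = 0 := hw.2
      have hDwY : D w ∈ Z := ⟨isDeg_D hw.1, show D (D w) = 0 from D_D⟩
      have hDlow : ∀ a γ, a ≤ c → D w a γ = δ w a γ := by
        intro a γ ha
        cases a with
        | zero => rfl
        | succ b =>
          show tot _ _ _ (b + 1) = _
          rw [tot_succ, loc_liftL, hwc b γ (by omega), map_zero, smul_zero, sub_zero]
          rfl
      have hδ : ∀ a γ, a ≠ c → δ w a γ = 0 := fun a γ ha =>
        (congrArg (dlist _) (funext fun α => loc_eq_zero (hwc a _ ha))).trans (dlist_zero _)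
      have hWc : (⟨D w, hDwY⟩ : Z) ∈ W c := fun a γ ha => by
        show D w a γ = 0
        rw [hDlow a γ ha.le, hδ a γ ha.ne]
      rw [← sub_add_cancel (⟨⟨y, hy, hD⟩, hyc⟩ : W c) ⟨⟨D w, hDwY⟩, hWc⟩]
      refine Submodule.add_mem_sup ?_ ?_
      · show ∀ a γ, a < c + 1 → (y - D w) a γ = 0
        intro a γ ha
        show y a γ - D w a γ = 0
        rw [hDlow a γ (by omega)]
        rcases lt_or_eq_of_le (Nat.lt_succ_iff.1 ha) with h | h
        · have hy0 : y a γ = 0 := hyc a γ h
          rw [hy0, hδ a γ h.ne, sub_zero]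
        · subst h
          have := congrFun (congrFun hwe a) γ
          change δ w a γ = pr (k := k) a y a γ at this
          rw [pr_apply, if_pos rfl] at this
          rw [this, sub_self]
      · rw [LinearMap.mem_ker, LinearMap.comp_apply, Submodule.mkQ_apply, Submodule.Quotient.mk_eq_zero,
          Submodule.mem_comap]
        exact ⟨w, hw.1, rfl⟩
    have hr : LinearMap.range (π ∘ₗ (W c).subtype) = (W c).map π := by rw [LinearMap.range_comp, Submodule.range_subtype]
    haveI : Module.Finite k (W1.map (π ∘ₗ (W c).subtype)) := by rw [hmap]; infer_instance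
    obtain ⟨hf, hle⟩ := finrank_range_le_add (k := k) (V := W c) (H := totH hY (l + 1)) (C := colH hY c (l + 1)) (π ∘ₗ (W c).subtype) g W1 hker
    rw [hr] at hf hle
    rw [hmap] at hle
    refine ⟨hf, hle.trans ?_⟩
    rw [Finset.sum_eq_sum_Ico_succ_bot (by omega)]
    omega

end Sys

namespace Op

variable {Y' Y : Sys.{u} ι} [∀ s a, Module k (Y.N s a)] [∀ s a, Module k (Y'.N s a)] (O : Op Y' Y)

/-- `O` is semilinear over `σ`. -/
def IsSemilin (σ : k →+* k) : Prop :=
  ∀ (s : Finset ι) (a a' : ℕ) (c : k) (x : Y'.N s a) (γ : List {i // i ∈ s}),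
    O.Q s a a' (c • x) γ = σ c • O.Q s a a' x γ

variable (hY : Y.IsLin k) (hY' : Y'.IsLin k) (σ : k →+* k) (hsm : O.IsSemilin σ)

include hY' hsm in
theorem ψ_smul (n : ℕ) (c : k) (x : Y'.Coch) : O.ψ n (c • x) = σ c • O.ψ n x := by
  funext a' γ
  simp only [ψ, Pi.smul_apply, Finset.smul_sum]
  refine Finset.sum_congr rfl fun a _ => ?_
  rw [show Sys.loc (c • x) γ.toFinset a = fun α => c • Sys.loc x γ.toFinset a α from
    funext fun α => Sys.loc_smul hY' c x _ a α]
  generalize Sys.loc x γ.toFinset a = f, liftL γ = β, n - 1 - a = b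
  induction b generalizing f β with
  | zero => rcases β with - | ⟨i, β⟩ <;> simp [cup_zero, hsm _ _ _ c]
  | succ b ih =>
    rcases β with - | ⟨i, β⟩
    · simp
    · exact ih (fun α => f (i :: α)) β

include hY hY' hsm in
/-- The columns of the source are bounded by the columns of the target, in degrees `< p`. -/
theorem sum_finrank_colH_le {p : ℕ} (hσ : Function.Bijective σ) (hO : O.IsCartier p) (l : ℕ) (hl : l < p)
    (hfin : ∀ a ≤ l, Module.Finite k (Sys.colH hY a (l + 1)))
    (hfin' : ∀ a ≤ l, Module.Finite k (Sys.colH hY' a (l + 1))) :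
    ∑ a ∈ Finset.range (l + 1), Module.finrank k (Sys.colH hY' a (l + 1)) ≤
      ∑ a ∈ Finset.range (l + 1), Module.finrank k (Sys.colH hY a (l + 1)) := by
  obtain ⟨hT, hle⟩ := Sys.finrank_totH_le hY l hfin
  haveI : ∀ a : Fin (l + 1), Module.Finite k (Sys.colH hY' a.1 (l + 1)) := fun a => hfin' a.1 (Nat.lt_succ_iff.1 a.2)
  haveI : ∀ a : Fin (l + 1), Module.Free k (Sys.colH hY' a.1 (l + 1)) := fun a => Module.Free.of_divisionRing k _
  refine le_trans (b := Module.finrank k (∀ a : Fin (l + 1), Sys.colH hY' a.1 (l + 1))) (le_of_eq ?_) (le_trans ?_ hle)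
  · rw [Module.finrank_pi_fintype k]
    exact (Fin.sum_univ_eq_sum_range (fun a => Module.finrank k (Sys.colH hY' a (l + 1))) (l + 1)).symm
  -- the sum of the columns
  let S : (∀ a : Fin (l + 1), Sys.colZ hY' a (l + 1)) →ₗ[k] Y'.Coch :=
    ∑ a : Fin (l + 1), (Sys.colZ hY' a.1 (l + 1)).subtype ∘ₗ LinearMap.proj a
  have hS : ∀ v, S v = ∑ a, (v a : Y'.Coch) := fun v => by simp [S]
  have hSdeg : ∀ v, Y'.IsDeg (l + 1) (S v) := fun v => by
    rw [hS]; exact (Sys.degSub k Y' (l + 1)).sum_mem fun a _ => (v a).2.1.1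
  have hSδ : ∀ v, Sys.δ (S v) = 0 := fun v => by
    show Sys.δl hY' (S v) = 0
    rw [hS, map_sum]
    exact Finset.sum_eq_zero fun a _ => (v a).2.2
  let f : (∀ a : Fin (l + 1), Sys.colZ hY' a (l + 1)) →+ Sys.totH hY (l + 1) :=
    AddMonoidHom.mk' (fun v => Submodule.Quotient.mk ⟨O.ψ (l + 1) (S v), O.isDeg_ψ _ _, by
      show Sys.D (O.ψ (l + 1) (S v)) = 0
      rw [O.D_ψ (l + 1) (hSdeg v), hSδ]
      exact (AddMonoidHom.mk' (O.ψ (l + 1 + 1)) (O.ψ_add _)).map_zero⟩) fun v w => by
      rw [← Submodule.Quotient.mk_add]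
      refine congrArg Submodule.Quotient.mk (Subtype.ext ?_)
      show O.ψ (l + 1) (S (v + w)) = O.ψ (l + 1) (S v) + O.ψ (l + 1) (S w)
      rw [map_add, O.ψ_add]
  have hfsm : ∀ c v, f (c • v) = σ c • f v := fun c v => by
    show Submodule.Quotient.mk _ = σ c • Submodule.Quotient.mk _
    rw [← Submodule.Quotient.mk_smul]
    refine congrArg Submodule.Quotient.mk (Subtype.ext ?_)
    show O.ψ (l + 1) (S (c • v)) = σ c • O.ψ (l + 1) (S v)
    rw [map_smul, ψ_smul O hY' σ hsm]
  let Bp : Submodule k (∀ a : Fin (l + 1), Sys.colZ hY' a (l + 1)) :=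
    Submodule.pi Set.univ fun a => (Sys.colB hY' a (l + 1)).comap (Sys.colZ hY' a (l + 1)).subtype
  have hker : ∀ v, f v = 0 ↔ v ∈ Bp := by
    intro v
    constructor
    · intro hv
      obtain ⟨y, hy, hye⟩ := Submodule.mem_comap.1 ((Submodule.Quotient.mk_eq_zero _).1 hv)
      rw [Nat.add_sub_cancel] at hy
      obtain ⟨z, hz, hze⟩ := O.exists_δ_eq hO l hl (S v) (hSdeg v) y hy hye.symm
      intro a _
      refine Submodule.mem_comap.2 ⟨Sys.pr (k := k) (a : ℕ) z, ?_, ?_⟩
      · rw [Nat.add_sub_cancel]; exact Sys.pr_mem _ hz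
      · show Sys.δ (Sys.pr (k := k) (a : ℕ) z) = (v a : Y'.Coch)
        rw [← Sys.pr_δ, hze, hS, map_sum, Finset.sum_eq_single a (fun b _ hb => ?_) (by simp)]
        · exact Sys.pr_of_mem (v a).2.1
        · funext a' γ
          rw [Sys.pr_apply]
          split_ifs with h
          · exact (v b).2.1.2 a' γ (fun h' => hb (Fin.ext (h'.symm.trans h)))
          · rfl
    · intro hv
      choose z hz hze using fun a => Submodule.mem_comap.1 (hv a (Set.mem_univ a))
      refine (Submodule.Quotient.mk_eq_zero _).2 (Submodule.mem_comap.2 ⟨O.ψ l (∑ a, z a), ?_, ?_⟩)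
      · rw [Nat.add_sub_cancel]; exact O.isDeg_ψ _ _
      · show Sys.D (O.ψ l (∑ a, z a)) = O.ψ (l + 1) (S v)
        rw [O.D_ψ l ((Sys.degSub k Y' l).sum_mem fun a _ => by have := (hz a).1; rwa [Nat.add_sub_cancel] at this), hS]
        congr 1
        show Sys.δl hY' _ = _
        rw [map_sum]
        exact Finset.sum_congr rfl fun a _ => hze a
  let g : (_ ⧸ Bp) →+ Sys.totH hY (l + 1) :=
    QuotientAddGroup.lift Bp.toAddSubgroup f fun v hv => (hker v).2 hv
  haveI := hT
  refine le_trans (le_of_eq ?_) (finrank_le_of_semilinear σ hσ g ?_ ?_)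
  · exact ((Submodule.quotientPi fun a : Fin (l + 1) =>
      (Sys.colB hY' a (l + 1)).comap (Sys.colZ hY' a (l + 1)).subtype).finrank_eq).symm
  · intro c v
    obtain ⟨v, rfl⟩ := Submodule.Quotient.mk_surjective _ v
    exact hfsm c v
  · rw [injective_iff_map_eq_zero]
    intro v hv
    obtain ⟨v, rfl⟩ := Submodule.Quotient.mk_surjective _ v
    exact (Submodule.Quotient.mk_eq_zero _).2 ((hker v).1 hv)

end Op

end Groth.Agent.H27DI
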