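import Groth.Agent.H27DI.CartierPoly

/-!
# The Cartier isomorphism in all degrees for smooth algebras over perfect rings
-/

set_option autoImplicit false
universe u

open exteriorPower
open Groth.Agent.H27Cartier

namespace Groth.Agent.H27DI

variable {p : ℕ} [hp : Fact p.Prime]

section Naturality

variable {R C C' : Type u} [CommRing R] [CommRing C] [CommRing C'] [Algebra R C] [Algebra R C']
  [Fact ((p : C) = 0)] [Fact ((p : C') = 0)] (g : C →+* C')
  {ψ : ∀ q : ℕ, ↥(⋀[C]^q (Ω[C⁄R])) →+ ↥(⋀[C']^q (Ω[C'⁄R]))}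
  (hψ : DeRham.IsCxMap (KaehlerDifferential.D R C) (KaehlerDifferential.D R C') g ψ)

include hψ in
omit hp [Fact ((p : C) = 0)] [Fact ((p : C') = 0)] in
theorem cxMap_cl (a : ℕ) (b : Fin a → C) : ψ a (cl p a b) = cl p a fun i => g (b i) := by
  have h := hψ a (∏ i, b i ^ (p - 1)) b
  rw [DeRham.gen, DeRham.gen, map_prod] at h
  simp only [map_pow] at h
  exact h

variable {d : ∀ q : ℕ, ↥(⋀[C]^q (Ω[C⁄R])) →ₗ[R] ↥(⋀[C]^(q + 1) (Ω[C⁄R]))}
  (hd : DeRham.IsDiff (KaehlerDifferential.D R C) d)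
  {d' : ∀ q : ℕ, ↥(⋀[C']^q (Ω[C'⁄R])) →ₗ[R] ↥(⋀[C']^(q + 1) (Ω[C'⁄R]))}
  (hd' : DeRham.IsDiff (KaehlerDifferential.D R C') d')
  (φ : Ω[C⁄R] →ₗ[C] Tw p (Ω[C⁄R]))
  (hφ : ∀ b : C, ∃ w : C, (toTw p).symm (φ (KaehlerDifferential.D R C b)) =
    b ^ (p - 1) • KaehlerDifferential.D R C b + KaehlerDifferential.D R C w)
  (φ' : Ω[C'⁄R] →ₗ[C'] Tw p (Ω[C'⁄R]))
  (hφ' : ∀ b : C', ∃ w : C', (toTw p).symm (φ' (KaehlerDifferential.D R C' b)) =
    b ^ (p - 1) • KaehlerDifferential.D R C' b + KaehlerDifferential.D R C' w)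

include hψ hd hd' hφ hφ' in
/-- Functoriality of the inverse Cartier map up to exact forms. -/
theorem cxMap_extPow (a : ℕ) (x : ↥(⋀[C]^a (Ω[C⁄R]))) :
    ψ a ((toTw p).symm (extPow p φ a x)) - (toTw p).symm (extPow p φ' a (ψ a x)) ∈ DeRham.coboundaries d' a := by
  refine H27DR.gen_induction (KaehlerDifferential.D R C) (H27DR.kaehler_span R C) a
    (P := fun x => ψ a ((toTw p).symm (extPow p φ a x)) - (toTw p).symm (extPow p φ' a (ψ a x)) ∈
      DeRham.coboundaries d' a) ?_ (by simp [zero_mem])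
    (fun x y hx hy => by simp only [map_add, add_sub_add_comm]; exact add_mem hx hy) x
  intro b₀ b
  rw [DeRham.gen, extPow_smul, cxMap_smul g hψ, cxMap_smul g hψ, extPow_smul, map_pow]
  refine Eq.subst (motive := fun t => t ∈ DeRham.coboundaries d' a) (smul_sub (g b₀ ^ p) _ _)
    (pow_smul_mem_coboundaries hd' _ ?_)
  have e : ψ a (ιMulti C a fun i => KaehlerDifferential.D R C (b i)) =
      ιMulti C' a fun i => KaehlerDifferential.D R C' (g (b i)) := by
    have h := hψ a 1 b
    rwa [DeRham.gen, DeRham.gen, one_smul, map_one, one_smul] at h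
  have h1 := cxMap_mem_coboundaries g hψ hd hd' (extPow_sub_cl hd φ hφ a b)
  have h2 := extPow_sub_cl hd' φ' hφ' a fun i => g (b i)
  rw [map_sub, cxMap_cl g hψ] at h1
  rw [e]
  have := sub_mem h1 h2
  convert this using 1
  abel

end Naturality

variable {A B : Type u} [CommRing A] [CharP A p] [PerfectRing A p] [CommRing B] [Algebra A B] [Algebra.Smooth A B]
  [Fact ((p : B) = 0)]
  {d : ∀ q : ℕ, ↥(⋀[B]^q (Ω[B⁄A])) →ₗ[A] ↥(⋀[B]^(q + 1) (Ω[B⁄A]))}
  (hd : DeRham.IsDiff (KaehlerDifferential.D A B) d)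
  (φ : Ω[B⁄A] →ₗ[B] Tw p (Ω[B⁄A]))
  (hφ : ∀ b : B, ∃ w : B, (toTw p).symm (φ (KaehlerDifferential.D A B b)) =
    b ^ (p - 1) • KaehlerDifferential.D A B b + KaehlerDifferential.D A B w)

open MvPolynomial in
include hd hφ in
/-- The Cartier isomorphism: the exterior powers of `φ` compute the de Rham cohomology. -/
theorem cartier_bijective (a : ℕ) :
    (∀ η, (toTw p).symm (extPow p φ a η) ∈ DeRham.coboundaries d a → η = 0) ∧
      ∀ z, d a z = 0 → ∃ η, z - (toTw p).symm (extPow p φ a η) ∈ DeRham.coboundaries d a := by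
  classical
  obtain ⟨n, ⟨X⟩⟩ := exists_pres (p := p) (A := A) B
  let I : Ideal (MvPolynomial (Fin n) A) := RingHom.ker X.r
  let J := powIdeal p I
  have hJI : J ≤ I := Ideal.map_le_iff_le_comap.2 fun f hf => by
    rw [Ideal.mem_comap, frobenius_def]
    exact Ideal.pow_mem_of_mem _ hf p hp.out.pos
  haveI : Fact ((p : MvPolynomial (Fin n) A ⧸ J) = 0) :=
    ⟨by rw [← map_natCast (Ideal.Quotient.mk J), (inferInstance : Fact ((p : MvPolynomial (Fin n) A) = 0)).out, map_zero]⟩
  obtain ⟨dP, hdP⟩ := exists_isDiff A (MvPolynomial (Fin n) A)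
  obtain ⟨dQ, hdQ⟩ := exists_isDiff A (MvPolynomial (Fin n) A ⧸ J)
  -- the maps of complexes
  obtain ⟨ψr, hψr⟩ : ∃ ψ, DeRham.IsCxMap (KaehlerDifferential.D A (MvPolynomial (Fin n) A))
      (KaehlerDifferential.D A B) X.r.toRingHom ψ := by
    letI := X.r.toRingHom.toAlgebra
    haveI : IsScalarTower A (MvPolynomial (Fin n) A) B := IsScalarTower.of_algebraMap_eq fun c => (X.r.commutes c).symm
    exact H27DR.exists_isCxMap (R := A) (S := A) (A := MvPolynomial (Fin n) A) (B := B)
  obtain ⟨ψs, hψs⟩ : ∃ ψ, DeRham.IsCxMap (KaehlerDifferential.D A B)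
      (KaehlerDifferential.D A (MvPolynomial (Fin n) A ⧸ J)) X.s.toRingHom ψ := by
    letI := X.s.toRingHom.toAlgebra
    haveI : IsScalarTower A B (MvPolynomial (Fin n) A ⧸ J) := IsScalarTower.of_algebraMap_eq fun c => (X.s.commutes c).symm
    exact H27DR.exists_isCxMap (R := A) (S := A) (A := B) (B := MvPolynomial (Fin n) A ⧸ J)
  obtain ⟨ψπ, hψπ⟩ : ∃ ψ, DeRham.IsCxMap (KaehlerDifferential.D A (MvPolynomial (Fin n) A))
      (KaehlerDifferential.D A (MvPolynomial (Fin n) A ⧸ J)) (Ideal.Quotient.mk J) ψ :=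
    H27DR.exists_isCxMap (R := A) (S := A) (A := MvPolynomial (Fin n) A) (B := MvPolynomial (Fin n) A ⧸ J)
  have hπ_surj : ∀ q x, ∃ y, ψπ q y = x := fun q x => by
    refine H27DR.gen_induction (KaehlerDifferential.D A _) (H27DR.kaehler_span A (MvPolynomial (Fin n) A ⧸ J)) q
      (P := fun x => ∃ y, ψπ q y = x) ?_ ⟨0, map_zero _⟩ ?_ x
    · intro b₀ b
      obtain ⟨c₀, rfl⟩ := Ideal.Quotient.mk_surjective b₀
      choose c hc using fun i => Ideal.Quotient.mk_surjective (b i)
      exact ⟨DeRham.gen _ q c₀ c, by rw [hψπ, funext hc]⟩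
    · rintro x y ⟨x', rfl⟩ ⟨y', rfl⟩
      exact ⟨x' + y', map_add _ _ _⟩
  -- the kernel of `ψπ`
  have hker : ∀ q x, ψπ q x = 0 → x ∈ Poly.JF p I q := by
    intro q x hx
    rw [Poly.mem_JF_iff]
    intro s
    let gr : Derivation A (MvPolynomial (Fin n) A ⧸ J) (Fin n → MvPolynomial (Fin n) A ⧸ J) :=
      { toFun := fun c i => pd p I i c
        map_add' := fun a b => funext fun i => map_add _ _ _
        map_smul' := fun a b => funext fun i => map_smul _ _ _
        map_one_eq_zero' := funext fun i => by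
          show pd p I i 1 = 0
          rw [← map_one (Ideal.Quotient.mk (powIdeal p I)), pd_mk]
          simp
        leibniz' := fun a b => funext fun i => pd_mul i a b }
    let E := (Pi.basisFun (MvPolynomial (Fin n) A ⧸ J) (Fin n)).exteriorPower q
    let T := exteriorPower.map q gr.liftKaehlerDifferential
    have key : ∀ y, E.repr (T (ψπ q y)) s = Ideal.Quotient.mk J (((Poly.ε A n).exteriorPower q).repr y s) := by
      intro y
      conv_lhs => rw [← ((Poly.ε A n).exteriorPower q).sum_repr y]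
      have hb : ∀ t, T (ψπ q (((Poly.ε A n).exteriorPower q) t)) = E t := by
        intro t
        have e1 : ((Poly.ε A n).exteriorPower q) t = DeRham.gen (KaehlerDifferential.D A (MvPolynomial (Fin n) A)) q 1
            (fun i => MvPolynomial.X (t.1.orderEmbOfFin t.2 i)) := by
          rw [show ((Poly.ε A n).exteriorPower q) t = H27LogPoly.wedgeSet (Poly.ε A n) t from rfl,
            H27LogPoly.wedgeSet_eq, H27LogPoly.wedge, DeRham.gen, one_smul]
          congr 1
          funext i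
          exact KaehlerDifferential.mvPolynomialBasis_apply _ _ _
        rw [e1, hψπ, DeRham.gen, map_one, one_smul, exteriorPower.map_apply_ιMulti,
          show E t = ιMulti (MvPolynomial (Fin n) A ⧸ J) q (fun i => Pi.basisFun (MvPolynomial (Fin n) A ⧸ J) (Fin n) (t.1.orderEmbOfFin t.2 i)) from ?_]
        · congr 1
          funext i
          show gr.liftKaehlerDifferential (KaehlerDifferential.D A _ _) = _
          rw [Derivation.liftKaehlerDifferential_comp_D]
          funext j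
          show pd p I j (Ideal.Quotient.mk _ (MvPolynomial.X _)) = _
          rw [pd_mk, pderiv_X, Pi.basisFun_apply]
          rcases eq_or_ne j (t.1.orderEmbOfFin t.2 i) with rfl | hj
          · simp
          · simp [hj, Ne.symm hj]
        · show E t = _
          rw [exteriorPower.basis_apply, ιMulti_family, Set.powersetCard.ofFinEmbEquiv_symm_apply]
          rfl
      simp only [map_sum, cxMap_smul _ hψπ, map_smul, hb]
      rw [Finsupp.finsetSum_apply]
      simp only [Finsupp.smul_apply, Module.Basis.repr_self, Finsupp.single_apply, smul_eq_mul, mul_ite, mul_one,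
        mul_zero, Finset.sum_ite_eq', Finset.mem_univ, if_true]
    have h := key x
    rw [hx, map_zero, map_zero, Finsupp.zero_apply, eq_comm, Ideal.Quotient.eq_zero_iff_mem] at h
    exact h
  have hI0 : ∀ q x, x ∈ (I • ⊤ : Submodule (MvPolynomial (Fin n) A) ↥(⋀[MvPolynomial (Fin n) A]^q (Ω[MvPolynomial (Fin n) A⁄A]))) →
      ψr q x = 0 := by
    intro q x hx
    refine Submodule.smul_induction_on hx (fun r hr y _ => ?_) fun y z hy hz => by rw [map_add, hy, hz, add_zero]
    rw [cxMap_smul X.r.toRingHom hψr, show X.r.toRingHom r = 0 from hr, zero_smul]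
  have hJ0 : ∀ q x, x ∈ Poly.JF p I q → ψr q x = 0 := fun q x hx => hI0 q x (Submodule.smul_mono_left hJI hx)
  have hretr : ∀ q (x : ↥(⋀[B]^q (Ω[B⁄A]))) y, ψπ q y = ψs q x → ψr q y = x := by
    intro q x
    refine H27DR.gen_induction (KaehlerDifferential.D A B) (H27DR.kaehler_span A B) q
      (P := fun x => ∀ y, ψπ q y = ψs q x → ψr q y = x) ?_ ?_ ?_ x
    · intro b₀ b y hy
      obtain ⟨G₀, hG₀, hr₀⟩ := X.exists_lift b₀
      choose G hG hr using fun i => X.exists_lift (b i)
      have e : ψπ q (DeRham.gen (KaehlerDifferential.D A _) q G₀ G) = ψs q (DeRham.gen (KaehlerDifferential.D A B) q b₀ b) := by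
        rw [hψπ, hψs]
        exact congrArg₂ (DeRham.gen _ q) hG₀ (funext hG)
      have h0 := hJ0 q _ (hker q (y - DeRham.gen (KaehlerDifferential.D A _) q G₀ G) (by rw [map_sub, hy, e, sub_self]))
      rw [map_sub, sub_eq_zero] at h0
      rw [h0, hψr]
      exact congrArg₂ (DeRham.gen _ q) hr₀ (funext hr)
    · intro y hy
      exact hJ0 q y (hker q y (hy.trans (map_zero _)))
    · intro x₁ x₂ h₁ h₂ y hy
      obtain ⟨y₁, hy₁⟩ := hπ_surj q (ψs q x₁)
      have := h₂ (y - y₁) (by rw [map_sub, hy, hy₁, map_add, add_sub_cancel_left])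
      rw [map_sub, h₁ y₁ hy₁, sub_eq_iff_eq_add'] at this
      exact this
  refine ⟨fun η hη => ?_, fun z hz => ?_⟩
  · -- injectivity
    obtain ⟨c, hc⟩ := hπ_surj a (ψs a η)
    -- on `Q` the two candidates differ by an exact form
    obtain ⟨G, hG⟩ : ∃ G, ψπ a G = ψs a η ∧ ψs a ((toTw p).symm (extPow p φ a η)) -
        ψπ a ((toTw p).symm (extPow p (Poly.φP p A n) a G)) ∈ DeRham.coboundaries dQ a := by
      clear hη hc
      refine H27DR.gen_induction (KaehlerDifferential.D A B) (H27DR.kaehler_span A B) a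
        (P := fun η => ∃ G, ψπ a G = ψs a η ∧ ψs a ((toTw p).symm (extPow p φ a η)) -
          ψπ a ((toTw p).symm (extPow p (Poly.φP p A n) a G)) ∈ DeRham.coboundaries dQ a) ?_ ?_ ?_ η
      · intro b₀ b
        obtain ⟨G₀, hG₀, -⟩ := X.exists_lift b₀
        choose G hG hr using fun i => X.exists_lift (b i)
        refine ⟨DeRham.gen (KaehlerDifferential.D A _) a G₀ G, by rw [hψπ, hψs]; exact congrArg₂ (DeRham.gen _ a) hG₀ (funext hG), ?_⟩
        rw [DeRham.gen, DeRham.gen, extPow_smul, extPow_smul, cxMap_smul _ hψs, cxMap_smul _ hψπ,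
          show X.s.toRingHom (b₀ ^ p) = Ideal.Quotient.mk J (G₀ ^ p) by rw [map_pow, map_pow, hG₀]; rfl, map_pow]
        refine Eq.subst (motive := fun t => t ∈ DeRham.coboundaries dQ a) (smul_sub (Ideal.Quotient.mk J G₀ ^ p) _ _)
          (pow_smul_mem_coboundaries hdQ _ ?_)
        have h1 := cxMap_mem_coboundaries _ hψs hd hdQ (extPow_sub_cl hd φ hφ a b)
        have h2 := cxMap_mem_coboundaries _ hψπ hdP hdQ (extPow_sub_cl hdP _ Poly.φP_D a G)
        rw [map_sub, cxMap_cl _ hψs] at h1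
        rw [map_sub, cxMap_cl _ hψπ, show (fun i => Ideal.Quotient.mk J (G i)) = fun i => X.s.toRingHom (b i) from funext hG] at h2
        have := sub_mem h1 h2
        convert this using 1
        abel
      · exact ⟨0, by simp, by simp [zero_mem]⟩
      · rintro x y ⟨G, hG, hG'⟩ ⟨H, hH, hH'⟩
        refine ⟨G + H, by rw [map_add, hG, hH, map_add], ?_⟩
        simp only [map_add, add_sub_add_comm]
        exact add_mem hG' hH'
    have h1 : ψπ a ((toTw p).symm (extPow p (Poly.φP p A n) a G)) ∈ DeRham.coboundaries dQ a := by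
      have := sub_mem (cxMap_mem_coboundaries _ hψs hd hdQ hη) hG.2
      rwa [sub_sub_cancel] at this
    obtain ⟨ζ, hζ, hζe⟩ : ∃ ζ ∈ DeRham.coboundaries dP a, ψπ a ζ = ψπ a ((toTw p).symm (extPow p (Poly.φP p A n) a G)) := by
      generalize ψπ a ((toTw p).symm (extPow p (Poly.φP p A n) a G)) = y at h1
      cases a with
      | zero => exact ⟨0, zero_mem _, by rw [map_zero, (Submodule.mem_bot A).1 h1]⟩
      | succ b =>
        obtain ⟨w, rfl⟩ := h1
        obtain ⟨w', rfl⟩ := hπ_surj b w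
        exact ⟨dP b w', ⟨w', rfl⟩, H27DR.cxMap_comm _ (H27DR.kaehler_span _ _) _ _ dP hdP.1 dQ hdQ.1 ψπ hψπ b w'⟩
    have hGI := Poly.mem_of_exact (p := p) dP hdP a G ζ hζ (hker a _ (by rw [map_sub, hζe, sub_self]))
    rw [← hretr a η G hG.1]
    exact hI0 a G hGI
  · -- surjectivity
    obtain ⟨w, hw⟩ := hπ_surj a (ψs a z)
    have hdw : dP a w ∈ Poly.JF p I (a + 1) := hker _ _ (by
      rw [H27DR.cxMap_comm _ (H27DR.kaehler_span _ _) _ _ dP hdP.1 dQ hdQ.1 ψπ hψπ, hw,
        ← H27DR.cxMap_comm _ (H27DR.kaehler_span _ _) _ _ d hd.1 dQ hdQ.1 ψs hψs, hz, map_zero])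
    obtain ⟨c, η, hη, he⟩ := Poly.exists_of_closed (p := p) dP hdP a w hdw
    have h := hJ0 a _ he
    rw [map_sub, map_sub, hretr a z w hw] at h
    refine ⟨ψr a c, ?_⟩
    have h1 := cxMap_mem_coboundaries _ hψr hdP hd hη
    have h2 := cxMap_extPow _ hψr hdP hd _ Poly.φP_D φ hφ a c
    have := add_mem h1 h2
    convert this using 1
    rw [← sub_eq_zero]
    rw [← h]
    abel

end Groth.Agent.H27DI
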