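import Groth.Agent.H27DI.Tw
import Groth.Agent.H27Cartier.Main
import Groth.Agent.H27LogPoly.Main

/-!
# The Cartier isomorphism for polynomial forms modulo `p`-th powers of an ideal
-/

set_option autoImplicit false
universe u

open exteriorPower MvPolynomial
open Groth.Agent.H27Cartier Groth.Agent.H27LogPoly

namespace Groth.Agent.H27DI.Poly

variable {p : ℕ} [hp : Fact p.Prime] {A : Type u} [CommRing A] [CharP A p] [PerfectRing A p] {n : ℕ}

local notation "P" => MvPolynomial (Fin n) A

instance : Fact ((p : MvPolynomial (Fin n) A) = 0) := ⟨by rw [← map_natCast C, CharP.cast_eq_zero, map_zero]⟩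

variable (A n) in
/-- The basis `dx`. -/
noncomputable abbrev ε : Module.Basis (Fin n) P (Ω[P⁄A]) := KaehlerDifferential.mvPolynomialBasis A (Fin n)

variable (d : ∀ q : ℕ, ↥(⋀[(MvPolynomial (Fin n) A)]^q (Ω[(MvPolynomial (Fin n) A)⁄A])) →ₗ[A] ↥(⋀[(MvPolynomial (Fin n) A)]^(q + 1) (Ω[(MvPolynomial (Fin n) A)⁄A])))
  (hd : DeRham.IsDiff (KaehlerDifferential.D A (MvPolynomial (Fin n) A)) d)

omit hp [CharP A p] [PerfectRing A p] in
include hd in
theorem d_wedge (q : ℕ) (e : Fin q → Fin n) : d q (wedge (ε A n) e) = 0 := by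
  have h := hd.1 q 1 fun i => X (e i)
  rw [DeRham.gen, one_smul, Derivation.map_one_eq_zero] at h
  rw [wedge, show (fun i => ε A n (e i)) = fun i => KaehlerDifferential.D A P (X (e i)) from
    funext fun i => KaehlerDifferential.mvPolynomialBasis_apply _ _ _, h]
  exact (ιMulti P (q + 1)).map_coord_zero 0 (by simp)

omit hp [CharP A p] [PerfectRing A p] in
include hd in
theorem d_smul_const (q : ℕ) (b : P) (x : ↥(⋀[P]^q (Ω[P⁄A]))) (hx : x ∈ const (ε A n) q) :
    d q (b • x) = ∑ μ, dlogOp (shift 0 n) μ b • H27DR.lwedge q (ε A n μ) x := by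
  have h0 : d q x = 0 := by
    induction hx using AddSubgroup.closure_induction with
    | mem x hx => obtain ⟨e, rfl⟩ := hx; exact d_wedge d hd q e
    | zero => simp
    | add x y _ _ hx hy => rw [map_add, hx, hy, add_zero]
    | neg x _ hx => rw [map_neg, hx, neg_zero]
  rw [H27DR.d_smul _ d (H27DR.kaehler_span A P) hd.1, h0, smul_zero, add_zero]
  conv_lhs => rw [← (ε A n).sum_repr (KaehlerDifferential.D A P b)]
  apply Subtype.ext
  simp only [H27DR.coe_lwedge, map_sum, Finset.sum_mul, Submodule.coe_sum, Submodule.coe_smul, map_smul,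
    smul_mul_assoc]
  refine Finset.sum_congr rfl fun μ _ => ?_
  congr 1
  rw [dlogOp_eq, shift, if_pos (Nat.zero_le _), Nat.sub_self, pow_zero, one_mul,
    KaehlerDifferential.mvPolynomialBasis_repr_apply]

/-- Forms with coefficients in the `p`-th powers of `I`. -/
noncomputable abbrev JF (p : ℕ) [Fact p.Prime] [CharP A p] (I : Ideal P) (a : ℕ) :
    Submodule P ↥(⋀[P]^a (Ω[P⁄A])) :=
  powIdeal p I • ⊤

variable {I : Ideal (MvPolynomial (Fin n) A)}

omit [PerfectRing A p] in
theorem mem_JF_iff {a : ℕ} (x : ↥(⋀[P]^a (Ω[P⁄A]))) :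
    x ∈ JF p I a ↔ ∀ s, ((ε A n).exteriorPower a).repr x s ∈ powIdeal p I := by
  refine ⟨fun hx s => ?_, fun h => ?_⟩
  · refine Submodule.smul_induction_on hx (fun r hr y _ => ?_) fun y z hy hz => ?_
    · rw [map_smul, Finsupp.smul_apply, smul_eq_mul]
      exact Ideal.mul_mem_right _ _ hr
    · rw [map_add, Finsupp.add_apply]
      exact add_mem hy hz
  · rw [← ((ε A n).exteriorPower a).sum_repr x]
    exact Submodule.sum_mem _ fun s _ => Submodule.smul_mem_smul (h s) trivial

omit [PerfectRing A p] in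
theorem hat_mem_JF {a : ℕ} (T : Finset (Fin n) → P →+ P)
    (hT : ∀ S, ∀ c ∈ powIdeal p I, T S c ∈ powIdeal p I) {x : ↥(⋀[P]^a (Ω[P⁄A]))} (hx : x ∈ JF p I a) :
    hat (ε A n) a T x ∈ JF p I a := by
  rw [← ((ε A n).exteriorPower a).sum_repr x, map_sum]
  refine Submodule.sum_mem _ fun s _ => ?_
  rw [show ((ε A n).exteriorPower a) s = wedgeSet (ε A n) s from rfl, hat_smul_wedgeSet]
  exact Submodule.smul_mem_smul (hT _ _ ((mem_JF_iff x).1 hx s)) trivial

omit [PerfectRing A p] in
theorem projForm_mem_JF {a : ℕ} (T : Finset (Fin n)) {x : ↥(⋀[P]^a (Ω[P⁄A]))} (hx : x ∈ JF p I a) :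
    projForm p (ε A n) (shift 0 n) T a x ∈ JF p I a :=
  hat_mem_JF _ (fun S c hc => map_mem_powIdeal (p := p) (projW p (shift 0 n) T S)
    (fun f c => op_pow_mul _ _ (fun m q => Finset.prod_congr rfl fun ν _ => by simp [wt]) (fun m q => rfl) f c) hc) hx

omit [PerfectRing A p] in
theorem hom'_mem_JF {a : ℕ} (ν : Fin n) {x : ↥(⋀[P]^(a + 1) (Ω[P⁄A]))} (hx : x ∈ JF p I (a + 1)) :
    hom' p (ε A n) (shift 0 n) ν a x ∈ JF p I a := by
  have h := hat_mem_JF (fun _ => (intOp p (shift 0 n) ν).toAddMonoidHom) (fun S c hc =>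
    map_mem_powIdeal (p := p) (intOp p (shift 0 n) ν).toAddMonoidHom
      (fun f c => op_pow_mul _ _ (fun m q => by simp [inv']) (fun m q => add_right_comm _ _ _) f c) hc) hx
  show H27DR.contract ((ε A n).coord ν) a _ ∈ _
  refine Submodule.smul_induction_on h (fun r hr y _ => ?_) fun y z hy hz => ?_
  · rw [map_smul]; exact Submodule.smul_mem_smul hr trivial
  · rw [map_add]; exact add_mem hy hz

omit [PerfectRing A p] in
include hd in
theorem d_mem_JF {a : ℕ} {x : ↥(⋀[P]^a (Ω[P⁄A]))} (hx : x ∈ JF p I a) : d a x ∈ JF p I (a + 1) := by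
  refine Submodule.smul_induction_on hx (fun r hr y _ => ?_) fun y z hy hz => by rw [map_add]; exact add_mem hy hz
  rw [H27DR.d_smul _ d (H27DR.kaehler_span A P) hd.1]
  refine add_mem ?_ (Submodule.smul_mem_smul hr trivial)
  have hl : ∀ θ, H27DR.lwedge a θ y = ∑ μ, (ε A n).repr θ μ • H27DR.lwedge a (ε A n μ) y := fun θ => by
    conv_lhs => rw [← (ε A n).sum_repr θ]
    apply Subtype.ext
    simp only [H27DR.coe_lwedge, map_sum, Finset.sum_mul, Submodule.coe_sum, Submodule.coe_smul, map_smul,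
      smul_mul_assoc]
  rw [hl]
  refine Submodule.sum_mem _ fun μ _ => Submodule.smul_mem_smul ?_ trivial
  rw [KaehlerDifferential.mvPolynomialBasis_repr_apply]
  exact pderiv_mem_powIdeal μ hr

omit [PerfectRing A p] in
include hd in
theorem sub_projForm_mem' (T : Finset (Fin n)) :
    ∀ (a : ℕ) (w : ↥(⋀[P]^a (Ω[P⁄A]))), d a w ∈ JF p I (a + 1) →
      (∃ η ∈ DeRham.coboundaries d a, w - η - projForm p (ε A n) (shift 0 n) T a w ∈ JF p I a) ∧
        d a (projForm p (ε A n) (shift 0 n) T a w) ∈ JF p I (a + 1) := by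
  classical
  induction T using Finset.induction with
  | empty =>
    intro a w hw
    have h1 : projForm p (ε A n) (shift 0 n) ∅ a w = w := by
      refine form_induction (ε A n) (motive := fun ω => projForm p (ε A n) (shift 0 n) ∅ a ω = ω) (by simp)
        (fun x y hx hy => by simp only [map_add, hx, hy]) ?_ w
      intro m c s
      simp [projForm, hat_smul_wedgeSet, projW_monomial]
    rw [h1]
    exact ⟨⟨0, zero_mem _, by simp⟩, hw⟩
  | @insert ν T hν ih =>
    intro a w hw
    obtain ⟨⟨η, hη, he⟩, hcl⟩ := ih a w hw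
    rw [← projForm_insert (ε A n) hν]
    set v := projForm p (ε A n) (shift 0 n) T a w
    refine ⟨?_, ?_⟩
    · cases a with
      | zero =>
        have h := homotopy_zero (shift_le (r := 0)) (ε A n) d (d_smul_const d hd) ν v
        refine ⟨η, hη, ?_⟩
        have := add_mem he (hom'_mem_JF ν hcl)
        rw [h] at this
        convert this using 1
        abel
      | succ b =>
        have h := homotopy (p := p) (shift_le (r := 0)) (ε A n) d (d_smul_const d hd) ν b v
        refine ⟨η + d b (hom' p (ε A n) (shift 0 n) ν b v), add_mem hη ⟨_, rfl⟩, ?_⟩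
        have := add_mem he (hom'_mem_JF ν hcl)
        convert this using 1
        rw [show projForm p (ε A n) (shift 0 n) {ν} (b + 1) v = v - (d b (hom' p (ε A n) (shift 0 n) ν b v) +
          hom' p (ε A n) (shift 0 n) ν (b + 1) (d (b + 1) v)) by rw [h, sub_sub_cancel]]
        abel
    · cases a with
      | zero =>
        have h := homotopy_zero (shift_le (r := 0)) (ε A n) d (d_smul_const d hd) ν v
        rw [eq_sub_iff_add_eq, ← eq_sub_iff_add_eq'] at h
        rw [h, map_sub]
        exact sub_mem hcl (d_mem_JF d hd (hom'_mem_JF ν hcl))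
      | succ b =>
        have h := homotopy (p := p) (shift_le (r := 0)) (ε A n) d (d_smul_const d hd) ν b v
        rw [eq_sub_iff_add_eq, ← eq_sub_iff_add_eq'] at h
        rw [h, map_sub, map_add, show d (b + 1) (d b _) = 0 from LinearMap.congr_fun (hd.2 b) _, zero_add]
        exact sub_mem hcl (d_mem_JF d hd (hom'_mem_JF ν hcl))

variable (p A n) in
/-- The semilinear lift `dx ↦ x^(p-1) dx`. -/
noncomputable def φP : Ω[P⁄A] →ₗ[P] Tw p (Ω[P⁄A]) :=
  (ε A n).constr ℕ fun i => toTw p ((X i : P) ^ (p - 1) • ε A n i)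

omit [PerfectRing A p] in
theorem φP_D (G : P) : ∃ w : P, (toTw p).symm (φP p A n (KaehlerDifferential.D A P G)) =
    G ^ (p - 1) • KaehlerDifferential.D A P G + KaehlerDifferential.D A P w := by
  obtain ⟨q, hq⟩ := exists_norm_exact (p := p) G
  refine ⟨-q, ?_⟩
  conv_lhs => rw [← (ε A n).sum_repr (KaehlerDifferential.D A P G)]
  rw [map_sum, map_sum]
  simp only [map_smul, toTw_symm_smul, φP, Module.Basis.constr_basis, AddEquiv.symm_apply_apply, smul_smul]
  rw [map_neg, ← sub_eq_add_neg, ← (ε A n).sum_repr (KaehlerDifferential.D A P G),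
    ← (ε A n).sum_repr (KaehlerDifferential.D A P q), Finset.smul_sum, ← Finset.sum_sub_distrib]
  refine Finset.sum_congr rfl fun i _ => ?_
  simp only [Module.Basis.repr_sum_self, smul_smul, ← sub_smul, KaehlerDifferential.mvPolynomialBasis_repr_apply]
  rw [hq i]
  congr 1
  ring

omit [PerfectRing A p] in
theorem extPow_φP_smul_wedgeSet {a : ℕ} (c : P) (s : Set.powersetCard (Fin n) a) :
    (toTw p).symm (extPow p (φP p A n) a (c • wedgeSet (ε A n) s)) =
      (c ^ p * monomial (sexp p 0 s.1) 1) • wedgeSet (ε A n) s := by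
  rw [extPow_smul, wedgeSet_eq, wedge, extPow_ιMulti, mul_smul]
  congr 1
  simp only [φP, Module.Basis.constr_basis, AddEquiv.symm_apply_apply]
  rw [← AlternatingMap.coe_multilinearMap, MultilinearMap.map_smul_univ, ← prod_X_pow (r := 0) p s.1]
  congr 1
  conv_rhs => rw [← Finset.image_orderEmbOfFin_univ s.1 s.2]
  rw [Finset.prod_image fun i _ j _ h => (s.1.orderEmbOfFin s.2).injective h]
  simp [shift]

omit [PerfectRing A p] in
theorem pow_p_eq_expand (c : P) : c ^ p = expand p (MvPolynomial.map (frobenius A p) c) := by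
  rw [← MvPolynomial.map_expand, map_frobenius_expand]

theorem expand_eq_pow (g : P) :
    expand p g = (MvPolynomial.map (frobeniusEquiv A p).symm.toRingHom g) ^ p := by
  rw [pow_p_eq_expand, MvPolynomial.map_map]
  congr 1
  rw [show (frobenius A p).comp (frobeniusEquiv A p).symm.toRingHom = RingHom.id A from
    RingHom.ext fun x => by simp, MvPolynomial.map_id]

theorem exists_projForm_eq (a : ℕ) (x : ↥(⋀[P]^a (Ω[P⁄A]))) :
    ∃ c, projForm p (ε A n) (shift 0 n) Finset.univ a x = (toTw p).symm (extPow p (φP p A n) a c) := by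
  refine form_induction (ε A n) (motive := fun x => ∃ c, projForm p (ε A n) (shift 0 n) Finset.univ a x =
    (toTw p).symm (extPow p (φP p A n) a c)) ⟨0, by simp⟩ ?_ ?_ x
  · rintro x y ⟨c, hc⟩ ⟨c', hc'⟩
    exact ⟨c + c', by rw [map_add, hc, hc', map_add, map_add]⟩
  · intro m e s
    obtain ⟨g, hg⟩ := projW_eq (R := A) (r := 0) p s.1 (monomial m e)
    exact ⟨MvPolynomial.map (frobeniusEquiv A p).symm.toRingHom g • wedgeSet (ε A n) s, by
      rw [projForm, hat_smul_wedgeSet, hg, extPow_φP_smul_wedgeSet, ← expand_eq_pow]⟩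

omit [PerfectRing A p] in
theorem projForm_extPow (a : ℕ) (c : ↥(⋀[P]^a (Ω[P⁄A]))) :
    projForm p (ε A n) (shift 0 n) Finset.univ a ((toTw p).symm (extPow p (φP p A n) a c)) =
      (toTw p).symm (extPow p (φP p A n) a c) := by
  rw [← ((ε A n).exteriorPower a).sum_repr c]
  simp only [map_sum]
  refine Finset.sum_congr rfl fun s _ => ?_
  rw [show ((ε A n).exteriorPower a) s = wedgeSet (ε A n) s from rfl, extPow_φP_smul_wedgeSet, projForm,
    hat_smul_wedgeSet, pow_p_eq_expand, projW_expand]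

variable (p) in
/-- The `p`-th root of the coefficient of `∏_{S} x^(p-1)`. -/
noncomputable def rootS (S : Finset (Fin n)) : P →+ P :=
  (MvPolynomial.map (frobeniusEquiv A p).symm.toRingHom).toAddMonoidHom.comp
    (op (fun m => ∏ ν, ind p ((wt (shift 0 n) S ν m : ℕ) : ZMod p)) (divExp p)).toAddMonoidHom

theorem rootS_monomial (S : Finset (Fin n)) (m : Fin n →₀ ℕ) (a : A) :
    rootS p S (monomial m a) = monomial (divExp p m)
      ((frobeniusEquiv A p).symm (a * ∏ ν, ind p ((wt (shift 0 n) S ν m : ℕ) : ZMod p))) := by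
  simp [rootS, op_monomial, map_monomial]

theorem rootS_pow_mul (S : Finset (Fin n)) (f c : P) : rootS p S (f ^ p * c) = f * rootS p S c := by
  induction f using MvPolynomial.induction_on' with
  | add f g hf hg => simp only [add_pow_char f g p, add_mul, map_add, hf, hg]
  | monomial q a =>
    induction c using MvPolynomial.induction_on' with
    | add c d hc hd => simp only [mul_add, map_add, hc, hd]
    | monomial m b =>
      rw [monomial_pow, monomial_mul, rootS_monomial, rootS_monomial, monomial_mul, add_comm (p • q) m, divExp_add,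
        add_comm q, mul_assoc, map_mul, frobeniusEquiv_symm_pow]
      congr 2
      simp [wt]

theorem rootS_sexp (S : Finset (Fin n)) : rootS p S (monomial (sexp p 0 S) 1 : P) = 1 := by
  rw [rootS_monomial, one_mul, Finset.prod_eq_one fun ν _ => (show ind p ((wt (shift 0 n) S ν (sexp p 0 S) : ℕ) : ZMod p) = (1 : A) from if_pos ?_),
    map_one,
    show divExp p (sexp p 0 S) = 0 from ?_]
  · rfl
  · ext ν
    simp only [divExp, Finsupp.mapRange_apply, sexp, Finsupp.equivFunOnFinite_symm_apply_apply, Finsupp.coe_zero,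
      Pi.zero_apply, shift, if_pos (Nat.zero_le _), mul_one]
    split
    · exact Nat.div_eq_of_lt (Nat.sub_lt hp.out.pos one_pos)
    · exact Nat.zero_div p
  · simp only [wt, sexp, Finsupp.equivFunOnFinite_symm_apply_apply, shift, if_pos (Nat.zero_le _), mul_one]
    split
    · rw [Nat.sub_add_cancel hp.out.one_le, ZMod.natCast_self]
    · simp

theorem rootS_mem {S : Finset (Fin n)} {c : P} (hc : c ∈ powIdeal p I) : rootS p S c ∈ I := by
  suffices ∀ r : P, rootS p S (r * c) ∈ I by simpa using this 1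
  refine Submodule.span_induction (p := fun c _ => ∀ r : P, rootS p S (r * c) ∈ I) ?_ ?_ ?_ ?_ hc
  · rintro _ ⟨f, hf, rfl⟩ r
    rw [mul_comm, frobenius_def, rootS_pow_mul]
    exact Ideal.mul_mem_right _ _ hf
  · intro r; simp
  · intro x y _ _ hx hy r
    rw [mul_add, map_add]
    exact add_mem (hx r) (hy r)
  · intro a x _ hx r
    rw [smul_eq_mul, ← mul_assoc]
    exact hx _

include hd in
/-- Forms closed modulo `I^[p]` are `Φ c` plus exact forms. -/
theorem exists_of_closed (a : ℕ) (w : ↥(⋀[P]^a (Ω[P⁄A]))) (hw : d a w ∈ JF p I (a + 1)) :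
    ∃ c, ∃ η ∈ DeRham.coboundaries d a, w - η - (toTw p).symm (extPow p (φP p A n) a c) ∈ JF p I a := by
  obtain ⟨⟨η, hη, he⟩, -⟩ := sub_projForm_mem' (p := p) d hd Finset.univ a w hw
  obtain ⟨c, hc⟩ := exists_projForm_eq (p := p) a w
  exact ⟨c, η, hη, hc ▸ he⟩

include hd in
/-- `Φ c` exact modulo `I^[p]` forces the coefficients of `c` into `I`. -/
theorem mem_of_exact (a : ℕ) (c : ↥(⋀[P]^a (Ω[P⁄A]))) (η : ↥(⋀[P]^a (Ω[P⁄A])))
    (hη : η ∈ DeRham.coboundaries d a) (h : (toTw p).symm (extPow p (φP p A n) a c) - η ∈ JF p I a) :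
    c ∈ (I • ⊤ : Submodule P ↥(⋀[P]^a (Ω[P⁄A]))) := by
  have hπ : projForm p (ε A n) (shift 0 n) Finset.univ a η = 0 := by
    cases a with
    | zero => rw [(Submodule.mem_bot A).1 hη, map_zero]
    | succ b =>
      obtain ⟨ζ, rfl⟩ := hη
      exact projForm_d_eq_zero (p := p) (shift_le (r := 0)) (ε A n) d (d_smul_const d hd) b ζ
  have h' := projForm_mem_JF (p := p) (I := I) Finset.univ h
  rw [map_sub, projForm_extPow, hπ, sub_zero] at h'
  rw [← ((ε A n).exteriorPower a).sum_repr c]
  refine Submodule.sum_mem _ fun s _ => Submodule.smul_mem_smul ?_ trivial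
  have hs := (mem_JF_iff _).1 h' s
  have e : ((ε A n).exteriorPower a).repr ((toTw p).symm (extPow p (φP p A n) a c)) s =
      ((ε A n).exteriorPower a).repr c s ^ p * monomial (sexp p 0 s.1) 1 := by
    conv_lhs => rw [← ((ε A n).exteriorPower a).sum_repr c]
    simp only [map_sum, show ∀ t, ((ε A n).exteriorPower a) t = wedgeSet (ε A n) t from fun t => rfl,
      extPow_φP_smul_wedgeSet]
    simp only [map_smul, show ∀ t, wedgeSet (ε A n) t = ((ε A n).exteriorPower a) t from fun t => rfl,
      Module.Basis.repr_self, Finsupp.smul_single, smul_eq_mul, mul_one, Finsupp.finsetSum_apply,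
      Finsupp.single_apply, Finset.sum_ite_eq', Finset.mem_univ, if_true]
  rw [e] at hs
  have := rootS_mem (S := s.1) hs
  rwa [rootS_pow_mul, rootS_sexp, mul_one] at this

end Groth.Agent.H27DI.Poly
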