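import Mathlib

/-!
# Čech calculus on lists

Cochains with values in a fixed group are functions on lists of indices, vanishing on the empty list.
`dlist` is the Čech differential, `tot` the total differential of Čech cochains with values in a graded
group with a differential, and `cone` the cup product with the degree one class `(φ, -h)` of
Deligne–Illusie.
-/

set_option autoImplicit false
universe u v w

namespace Groth.Agent.H27DI

variable {J : Type w}

/-- The sign `(-1)^(n)`. -/
def sgn (n : ℕ) : ℤ := (-1) ^ n

theorem sgn_succ (n : ℕ) : sgn (n + 1) = -sgn n := by simp [sgn, pow_succ]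

theorem sgn_mul_self (n : ℕ) : sgn n * sgn n = 1 := by simp [sgn, ← mul_pow]

section

variable {A : Type u} [AddCommGroup A] {A' : Type v} [AddCommGroup A']

/-- The Čech differential. -/
def dlist : List J → (List J → A) → A
  | [], _ => 0
  | i :: γ, f => f γ - dlist γ fun α => f (i :: α)

@[simp] theorem dlist_nil (f : List J → A) : dlist [] f = 0 := rfl

theorem dlist_cons (i : J) (γ : List J) (f : List J → A) :
    dlist (i :: γ) f = f γ - dlist γ fun α => f (i :: α) := rfl

theorem dlist_add (γ : List J) : ∀ f g : List J → A, dlist γ (f + g) = dlist γ f + dlist γ g := by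
  induction γ with
  | nil => simp
  | cons i γ ih =>
    intro f g
    simp only [dlist_cons, Pi.add_apply]
    rw [show (fun α => f (i :: α) + g (i :: α)) = (fun α => f (i :: α)) + fun α => g (i :: α) from rfl, ih]
    abel

theorem dlist_congr (γ : List J) : ∀ f g : List J → A, (∀ α : List J, α.length + 1 = γ.length → f α = g α) →
    dlist γ f = dlist γ g := by
  induction γ with
  | nil => simp
  | cons i γ ih =>
    intro f g h
    rw [dlist_cons, dlist_cons, h γ rfl, ih _ (fun α => g (i :: α)) fun α hα => h _ (by simp; omega)]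

theorem dlist_map (T : A →+ A') (γ : List J) : ∀ f : List J → A, dlist γ (fun α => T (f α)) = T (dlist γ f) := by
  induction γ with
  | nil => simp
  | cons i γ ih => intro f; rw [dlist_cons, dlist_cons, map_sub, ih]

theorem dlist_zero (γ : List J) : dlist γ (fun _ => (0 : A)) = 0 :=
  (dlist_map (0 : A →+ A) γ fun _ => 0).trans (by simp)

theorem dlist_sub (γ : List J) (f g : List J → A) : dlist γ (f - g) = dlist γ f - dlist γ g := by
  rw [eq_sub_iff_add_eq, ← dlist_add, sub_add_cancel]

theorem dlist_sum {κ : Type*} (s : Finset κ) (γ : List J) (f : κ → List J → A) :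
    dlist γ (fun α => ∑ t ∈ s, f t α) = ∑ t ∈ s, dlist γ (f t) := by
  classical
  induction s using Finset.induction with
  | empty => simp [dlist_zero]
  | @insert a s ha ih =>
    simp only [Finset.sum_insert ha]
    rw [show (fun α => f a α + ∑ t ∈ s, f t α) = f a + fun α => ∑ t ∈ s, f t α from rfl, dlist_add, ih]

theorem dlist_relabel {J' : Type w} (e : J' → J) (γ : List J') : ∀ f : List J → A,
    dlist (γ.map e) f = dlist γ fun α => f (α.map e) := by
  induction γ with
  | nil => simp
  | cons i γ ih => intro f; rw [List.map_cons, dlist_cons, ih, dlist_cons]; simp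

theorem dlist_dlist (γ : List J) : ∀ f : List J → A, dlist γ (fun α => dlist α f) = 0 := by
  induction γ with
  | nil => simp
  | cons i γ ih =>
    intro f
    rw [dlist_cons, show (fun α => dlist (i :: α) f) = f - fun α => dlist α (fun β => f (i :: β)) from rfl,
      dlist_sub, ih, sub_zero, sub_self]

/-- The Čech differential on lists given by tuples. -/
theorem dlist_ofFn : ∀ (n : ℕ) (c : Fin (n + 1) → J) (f : List J → A),
    dlist (List.ofFn c) f = ∑ t : Fin (n + 1), ((-1 : ℤ) ^ (t : ℕ)) • f (List.ofFn (c ∘ t.succAbove)) := by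
  intro n
  induction n with
  | zero =>
    intro c f
    simp [dlist_cons]
  | succ n ih =>
    intro c f
    rw [List.ofFn_succ (f := c), dlist_cons, ih, Fin.sum_univ_succ (n := n + 1)]
    simp only [Fin.val_zero, pow_zero, one_smul, Fin.succAbove_zero]
    rw [sub_eq_add_neg, ← Finset.sum_neg_distrib]
    refine congrArg₂ (· + ·) rfl (Finset.sum_congr rfl fun t _ => ?_)
    rw [Fin.val_succ, pow_succ, mul_neg_one, neg_smul]
    congr 3
    rw [List.ofFn_succ (f := c ∘ t.succ.succAbove)]
    congr 1
    congr 1
    funext x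
    simp

end

section Tot

variable {N : ℕ → Type u} [∀ a, AddCommGroup (N a)] (d : ∀ a, N a →+ N (a + 1))

/-- The total differential `δ + (-1)^b d`. -/
def tot (γ : List J) (y : ∀ a, List J → N a) : ∀ a, N a
  | 0 => dlist γ (y 0)
  | a + 1 => dlist γ (y (a + 1)) - sgn γ.length • d a (y a γ)

@[simp] theorem tot_zero (γ : List J) (y : ∀ a, List J → N a) : tot d γ y 0 = dlist γ (y 0) := rfl

theorem tot_succ (γ : List J) (y : ∀ a, List J → N a) (a : ℕ) :
    tot d γ y (a + 1) = dlist γ (y (a + 1)) - sgn γ.length • d a (y a γ) := rfl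

theorem tot_add (γ : List J) (y z : ∀ a, List J → N a) (a : ℕ) :
    tot d γ (y + z) a = tot d γ y a + tot d γ z a := by
  cases a with
  | zero => exact dlist_add γ _ _
  | succ a => simp only [tot_succ, Pi.add_apply, dlist_add, map_add, smul_add]; abel

theorem tot_tot (hdd : ∀ a x, d (a + 1) (d a x) = 0) (γ : List J) (hγ : γ ≠ []) (y : ∀ a, List J → N a) (a : ℕ) :
    tot d γ (fun b α => tot d α y b) a = 0 := by
  obtain ⟨i, γ, rfl⟩ := List.exists_cons_of_ne_nil hγ
  have h0 : ∀ b, dlist (i :: γ) (fun α => dlist α (y b)) = 0 := fun b => dlist_dlist _ _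
  have h1 : ∀ b, dlist (i :: γ) (fun α => sgn α.length • d b (y b α)) =
      sgn γ.length • d b (dlist (i :: γ) (y b)) := fun b => by
    rw [dlist_congr (i :: γ) _ (fun α => sgn γ.length • d b (y b α)) fun α hα => by
      simp only [List.length_cons, add_left_inj] at hα; rw [hα]]
    exact (dlist_map (sgn γ.length • d b) (i :: γ) (y b))
  cases a with
  | zero => exact h0 0
  | succ a =>
    rw [tot_succ, show (fun α => tot d α y (a + 1)) =
      (fun α => dlist α (y (a + 1))) - fun α => sgn α.length • d a (y a α) from rfl, dlist_sub, h0, h1]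
    cases a with
    | zero => simp [sgn_succ]
    | succ a => simp [tot_succ, sgn_succ, hdd]

variable {N' : ℕ → Type v} [∀ a, AddCommGroup (N' a)] (d' : ∀ a, N' a →+ N' (a + 1))

/-- Naturality in the values and the indices. -/
theorem tot_map {J' : Type w} (e : J' → J) (g : ∀ a, N a →+ N' a) (hg : ∀ a x, g (a + 1) (d a x) = d' a (g a x))
    (γ : List J') (y : ∀ a, List J → N a) (a : ℕ) :
    g a (tot d (γ.map e) y a) = tot d' γ (fun b α => g b (y b (α.map e))) a := by
  cases a with
  | zero => rw [tot_zero, tot_zero, dlist_relabel, dlist_map]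
  | succ a =>
    rw [tot_succ, tot_succ, dlist_relabel, dlist_map, map_sub, map_zsmul, hg, List.length_map]

variable (lw : J → ∀ a, N a →+ N (a + 1)) (hm : J → J → ∀ a, N a →+ N a)

/-- The term with `h`. -/
def hpart (y : ∀ a, List J → N a) (a : ℕ) : List J → N a
  | i :: j :: α => hm i j a (y a (j :: α))
  | _ => 0

/-- The term with `φ`. -/
def lpart (y : ∀ a, List J → N a) : ∀ a, List J → N a
  | a + 1, i :: α => sgn α.length • lw i a (y a (i :: α))
  | _, _ => 0

/-- Cup product with `(φ, -h)` from the left. -/
def cone (y : ∀ a, List J → N a) : ∀ a, List J → N a :=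
  fun a γ => lpart lw y a γ - hpart hm y a γ

theorem cone_nil (y : ∀ a, List J → N a) (a : ℕ) : cone lw hm y a [] = 0 := by
  cases a <;> simp [cone, lpart, hpart]

theorem cone_singleton (y : ∀ a, List J → N a) (a : ℕ) (i : J) :
    cone lw hm y (a + 1) [i] = lw i a (y a [i]) := by
  simp [cone, lpart, hpart, sgn]

theorem cone_zero (i : J) (γ : List J) (y : ∀ a, List J → N a) :
    cone lw hm y 0 (i :: γ) = -hpart hm y 0 (i :: γ) := by
  simp [cone, lpart]

theorem cone_cons (i : J) (γ : List J) (y : ∀ a, List J → N a) (a : ℕ) :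
    cone lw hm y (a + 1) (i :: γ) = sgn γ.length • lw i a (y a (i :: γ)) - hpart hm y (a + 1) (i :: γ) := rfl

variable (hcoc : ∀ i j m a x, hm i m a x = hm i j a x + hm j m a x)

include hcoc in
theorem dlist_hpart (y : ∀ a, List J → N a) (hy : ∀ a, y a [] = 0) (a : ℕ) (i j : J) (γ : List J) :
    dlist (i :: j :: γ) (hpart hm y a) = - hm i j a (dlist (j :: γ) (y a)) := by
  have key : dlist (j :: γ) (fun α => hpart hm y a (i :: α)) =
      hm i j a (dlist (j :: γ) (y a)) + hpart hm y a (j :: γ) := by
    rcases γ with - | ⟨m, γ⟩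
    · simp [dlist_cons, hpart, hy]
    · rw [dlist_cons, dlist_cons j (m :: γ) (y a), map_sub,
        show (fun α => hpart hm y a (i :: j :: α)) = fun α => hm i j a (y a (j :: α)) from rfl, dlist_map]
      simp only [hpart]
      rw [hcoc i j m]
      abel
  rw [dlist_cons, key]
  abel

include hcoc in
theorem tot_cone (hlw : ∀ i a x, d (a + 1) (lw i a x) = - lw i (a + 1) (d a x))
    (hhm : ∀ i j a x, d a (hm i j a x) = hm i j (a + 1) (d a x) + (lw i a x - lw j a x))
    (y : ∀ a, List J → N a) (hy : ∀ a, y a [] = 0) (γ : List J) (a : ℕ) :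
    tot d γ (cone lw hm y) a = - cone lw hm (fun b α => tot d α y b) a γ := by
  rcases γ with - | ⟨i, γ⟩
  · cases a <;> simp [cone_nil, tot_succ]
  -- the part in `φ`
  have hL : ∀ b, dlist (i :: γ) (lpart lw y (b + 1)) =
      match γ with
      | [] => 0
      | j :: α => sgn (j :: α).length • (lw i b (y b (j :: α)) - lw j b (y b (j :: α)))
          - sgn (j :: α).length • lw i b (dlist (i :: j :: α) (y b)) := fun b => by
    rcases γ with - | ⟨j, α⟩
    · simp [dlist_cons, lpart]
    · show _ = sgn (j :: α).length • _ - sgn (j :: α).length • _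
      rw [dlist_cons, dlist_cons i (j :: α) (y b), map_sub,
        dlist_congr (j :: α) _ (fun β => sgn α.length • lw i b (y b (i :: β))) fun β hβ => by
          simp only [List.length_cons, add_left_inj] at hβ
          show sgn β.length • _ = _
          rw [hβ],
        show dlist (j :: α) (fun β => sgn α.length • lw i b (y b (i :: β))) =
          sgn α.length • lw i b (dlist (j :: α) fun β => y b (i :: β)) from
          dlist_map (sgn α.length • lw i b) (j :: α) fun β => y b (i :: β)]
      simp only [lpart, List.length_cons, sgn_succ, neg_smul, smul_sub]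
      abel
  -- the part in `h`
  have hH : ∀ b, dlist (i :: γ) (hpart hm y b) =
      match γ with
      | [] => 0
      | j :: α => - hm i j b (dlist (j :: α) (y b)) := fun b => by
    rcases γ with - | ⟨j, α⟩
    · simp [dlist_cons, hpart]
    · exact dlist_hpart hm hcoc y hy b i j α
  have hsplit : ∀ b, dlist (i :: γ) (cone lw hm y b) = dlist (i :: γ) (lpart lw y b) - dlist (i :: γ) (hpart hm y b) :=
    fun b => dlist_sub _ _ _
  rcases γ with - | ⟨j, α⟩
  · rcases a with - | - | a
    · simp [cone, lpart, hpart, dlist_cons]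
    · simp [tot_succ, hsplit, hL, hH, cone_zero, cone_singleton, hpart, hy, dlist_cons]
    · simp [tot_succ, hsplit, hL, hH, cone_singleton, sgn, hy, dlist_cons, hlw]
  · rcases a with - | - | a
    · rw [tot_zero, hsplit, hH, cone_zero,
        show dlist (i :: j :: α) (lpart lw y 0) = 0 from
          (dlist_congr _ _ (fun _ => 0) fun β _ => rfl).trans (dlist_zero _)]
      simp [hpart]
    · rw [tot_succ, hsplit, hL, hH, cone_zero]
      simp only [cone_cons, hpart, tot_zero, tot_succ, map_neg, map_sub, map_zsmul, hhm, List.length_cons, sgn_succ,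
        smul_sub, smul_add, smul_neg, neg_smul]
      abel
    · rw [tot_succ, hsplit, hL, hH]
      simp only [cone_cons, hpart, tot_succ, map_neg, map_sub, map_zsmul, hhm, hlw, List.length_cons, sgn_succ,
        smul_sub, smul_add, smul_neg, neg_smul, smul_smul, neg_mul, neg_neg, sgn_mul_self, one_smul]
      abel

end Tot

section Cup

variable {A : Type u} [AddCommGroup A] {A' : Type v} [AddCommGroup A'] (Q : A' →+ List J → A)

/-- Cup product of a cochain of degree `b` with a family of cochains. -/
def cup : ℕ → (List J → A') → List J → A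
  | _, _, [] => 0
  | 0, f, i :: γ => Q (f [i]) (i :: γ)
  | b + 1, f, i :: γ => cup b (fun α => f (i :: α)) γ

@[simp] theorem cup_nil (b : ℕ) (f : List J → A') : cup Q b f [] = 0 := by cases b <;> rfl

theorem cup_zero (f : List J → A') (i : J) (γ : List J) : cup Q 0 f (i :: γ) = Q (f [i]) (i :: γ) := rfl

theorem cup_succ (b : ℕ) (f : List J → A') (i : J) (γ : List J) :
    cup Q (b + 1) f (i :: γ) = cup Q b (fun α => f (i :: α)) γ := rfl

theorem cup_add (b : ℕ) : ∀ (f g : List J → A') (γ : List J), cup Q b (f + g) γ = cup Q b f γ + cup Q b g γ := by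
  induction b with
  | zero => intro f g γ; rcases γ with - | ⟨i, γ⟩ <;> simp [cup_zero]
  | succ b ih =>
    intro f g γ
    rcases γ with - | ⟨i, γ⟩
    · simp
    · exact ih _ _ γ

theorem cup_zero' (b : ℕ) (γ : List J) : cup Q b (fun _ => 0) γ = 0 := by
  have h := cup_add Q b (fun _ => 0) (fun _ => 0) γ
  rwa [show ((fun _ => 0) + fun _ => 0 : List J → A') = fun _ => 0 from funext fun _ => add_zero _, left_eq_add] at h

theorem cup_sub (b : ℕ) (f g : List J → A') (γ : List J) :
    cup Q b (f - g) γ = cup Q b f γ - cup Q b g γ := by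
  rw [eq_sub_iff_add_eq, ← cup_add, sub_add_cancel]

theorem cup_of_length_le (b : ℕ) : ∀ (f : List J → A') (γ : List J), γ.length ≤ b → cup Q b f γ = 0 := by
  induction b with
  | zero => intro f γ hγ; rw [List.length_eq_zero_iff.1 (Nat.le_zero.1 hγ), cup_nil]
  | succ b ih =>
    intro f γ hγ
    rcases γ with - | ⟨i, γ⟩
    · simp
    · exact ih _ γ (by simpa using hγ)

/-- On the shortest lists the cup product only sees the first values. -/
theorem cup_of_length_eq (b : ℕ) : ∀ (f : List J → A') (γ : List J) (hγ : γ.length = b + 1),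
    cup Q b f γ = Q (f γ) [γ.getLast (List.ne_nil_of_length_pos (by omega))] := by
  induction b with
  | zero =>
    intro f γ hγ
    obtain ⟨i, rfl⟩ := List.length_eq_one_iff.1 hγ
    rfl
  | succ b ih =>
    intro f γ hγ
    rcases γ with - | ⟨i, γ⟩
    · simp at hγ
    · rw [cup_succ, ih _ γ (by simpa using hγ)]
      rw [List.getLast_cons]

theorem cup_congr (b : ℕ) : ∀ (f g : List J → A') (γ : List J), (∀ α : List J, α.length = b + 1 → f α = g α) →
    cup Q b f γ = cup Q b g γ := by
  induction b with
  | zero => intro f g γ h; rcases γ with - | ⟨i, γ⟩ <;> simp [cup_zero, h [_] rfl]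
  | succ b ih =>
    intro f g γ h
    rcases γ with - | ⟨i, γ⟩
    · simp
    · exact ih _ _ γ fun α hα => h _ (by simp [hα])

/-- The Leibniz rule for the Čech differential. -/
theorem dlist_cup (hQ : ∀ x, Q x [] = 0) (b : ℕ) : ∀ (f : List J → A') (γ : List J), (∀ α : List J, α.length ≤ b → f α = 0) →
    dlist γ (cup Q b f) = cup Q (b + 1) (fun α => dlist α f) γ + sgn b • cup (AddMonoidHom.mk'
      (fun x α => dlist α (Q x)) fun x x' => by funext α; rw [map_add]; exact dlist_add α _ _) b f γ := by
  induction b with
  | zero =>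
    intro f γ hf
    rcases γ with - | ⟨i, γ⟩
    · simp
    rw [dlist_cons, cup_succ, cup_zero, show (fun α => cup Q 0 f (i :: α)) = fun α => Q (f [i]) (i :: α) from rfl]
    rcases γ with - | ⟨j, γ⟩
    · simp [sgn, dlist_cons, hQ]
    · simp only [cup_zero, AddMonoidHom.mk'_apply, sgn, pow_zero, one_smul, dlist_cons i (j :: γ),
        dlist_cons i [j]]
      simp [dlist_cons]
  | succ b ih =>
    intro f γ hf
    rcases γ with - | ⟨i, γ⟩
    · simp
    rw [dlist_cons, cup_succ, show (fun α => cup Q (b + 1) f (i :: α)) = cup Q b (fun α => f (i :: α)) from rfl,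
      ih _ γ fun α hα => hf _ (by simp; omega), cup_succ,
      show (fun α => dlist (i :: α) f) = f - fun α => dlist α (fun β => f (i :: β)) from rfl, cup_sub,
      sgn_succ, neg_smul]
    abel

end Cup

end Groth.Agent.H27DI
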