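import Groth.Agent.H27DI.PsiMap
import Groth.Agent.H27Frob.SmoothLift
import Groth.Agent.H27Frob.W2Alg
import Groth.Agent.H24Def.FlatFS
import Groth.Agent.H27Cartier.Twist

/-!
# Lifts of Frobenius give the Deligne–Illusie data
-/

set_option autoImplicit false
universe u

namespace Groth.Agent.H27DI

variable (p : ℕ) [hp : Fact p.Prime]

/-- A flat lift of Frobenius-data: `p`-torsion of `T` is the kernel of `π`. -/
structure Lifting (A T : Type u) [CommRing A] [CommRing T] (π : T →+* A) : Prop where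
  surj : Function.Surjective π
  dvd : ∀ t, π t = 0 → ∃ c, t = (p : T) * c
  ann : ∀ t, (p : T) * t = 0 → π t = 0
  sq : (p : T) * p = 0

variable {p} {k : Type u} [CommRing k] [CharP k p] [PerfectRing k p] {A T : Type u} [CommRing A] [CommRing T]
  [Algebra k A] [h0 : Fact ((p : A) = 0)] {π : T →+* A} (hT : Lifting p A T π)

/-- A lift of Frobenius. -/
def IsFrob (π : T →+* A) (Φ : T →+* T) : Prop := ∀ t, π (Φ t) = π t ^ p

include hT in
theorem exists_w {Φ : T →+* T} (hΦ : IsFrob (p := p) π Φ) (t : T) : ∃ c, Φ t - t ^ p = (p : T) * c :=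
  hT.dvd _ (by rw [map_sub, hΦ, map_pow, sub_self])

include hT in
theorem w_unique {c c' : T} (h : (p : T) * c = (p : T) * c') : π c = π c' :=
  sub_eq_zero.1 (by rw [← map_sub]; exact hT.ann _ (by rw [mul_sub, h, sub_self]))

/-- The divided difference of a Frobenius lift. -/
noncomputable def W {Φ : T →+* T} (hΦ : IsFrob (p := p) π Φ) (t : T) : A := π (exists_w hT hΦ t).choose

theorem W_eq {Φ : T →+* T} (hΦ : IsFrob (p := p) π Φ) {t c : T} (h : Φ t - t ^ p = (p : T) * c) :
    W hT hΦ t = π c :=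
  w_unique hT ((exists_w hT hΦ t).choose_spec.symm.trans h)

include hT in
theorem add_mul_p_pow (t e : T) : (t + (p : T) * e) ^ p = t ^ p := by
  rw [add_pow_prime_eq hp.out, mul_pow]
  have h2 : (p : T) ^ p = 0 := by
    obtain ⟨m, hm⟩ : ∃ m, p = m + 2 := ⟨p - 2, by have := hp.out.two_le; omega⟩
    rw [show (p : T) ^ p = (p : T) ^ (m + 2) from congrArg _ hm, pow_add, pow_two, hT.sq, mul_zero]
  rw [h2, zero_mul, add_zero, show (p : T) * t * ((p : T) * e) = (p : T) * p * (t * e) by ring, hT.sq, zero_mul,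
    zero_mul, add_zero]

include hT in
theorem p_mul_Φ {Φ : T →+* T} (hΦ : IsFrob (p := p) π Φ) (e : T) : (p : T) * Φ e = (p : T) * e ^ p := by
  obtain ⟨c, hc⟩ := exists_w hT hΦ e
  rw [← sub_eq_zero, ← mul_sub, hc, ← mul_assoc, hT.sq, zero_mul]

theorem D_W_congr {Φ : T →+* T} (hΦ : IsFrob (p := p) π Φ) {t t' : T} (h : π t = π t') :
    KaehlerDifferential.D k A (W hT hΦ t) = KaehlerDifferential.D k A (W hT hΦ t') := by
  obtain ⟨e, he⟩ := hT.dvd (t' - t) (by rw [map_sub, h, sub_self])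
  obtain ⟨c, hc⟩ := exists_w hT hΦ t
  rw [eq_add_of_sub_eq' he]
  have : W hT hΦ (t + (p : T) * e) = π c + π e ^ p := by
    rw [W_eq hT hΦ (c := c + e ^ p) ?_, map_add, map_pow]
    rw [map_add, map_mul, map_natCast, p_mul_Φ hT hΦ, add_mul_p_pow hT, mul_add, ← hc]
    ring
  rw [this, W_eq hT hΦ hc, map_add, D_pow_p, add_zero]

/-- The inverse Cartier derivation of a Frobenius lift. -/
noncomputable def φfun {Φ : T →+* T} (hΦ : IsFrob (p := p) π Φ) (a : A) : Tw p (Ω[A⁄k]) :=
  toTw p (a ^ (p - 1) • KaehlerDifferential.D k A a + KaehlerDifferential.D k A (W hT hΦ (hT.surj a).choose))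

theorem φfun_eq {Φ : T →+* T} (hΦ : IsFrob (p := p) π Φ) {a : A} {t c : T} (ht : π t = a)
    (h : Φ t - t ^ p = (p : T) * c) : (φfun (k := k) hT hΦ a) =
      toTw p (a ^ (p - 1) • KaehlerDifferential.D k A a + KaehlerDifferential.D k A (π c)) := by
  rw [φfun, D_W_congr hT hΦ ((hT.surj a).choose_spec.trans ht.symm), W_eq hT hΦ h]

theorem pow_pred_mul (x : A) : x ^ (p - 1) * x = x ^ p := pow_sub_one_mul hp.out.ne_zero x

theorem exists_poly :
    ∃ q : MvPolynomial (Fin 2) ℤ,
      (∀ (R : Type u) [CommRing R] (x y : R), (x + y) ^ p = x ^ p + y ^ p + (p : R) * MvPolynomial.aeval ![x, y] q) ∧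
      ∀ i : Fin 2, MvPolynomial.pderiv i q =
        (MvPolynomial.X 0 + MvPolynomial.X 1) ^ (p - 1) - MvPolynomial.X i ^ (p - 1) := by
  obtain ⟨q, hq⟩ : ∃ q : MvPolynomial (Fin 2) ℤ, (MvPolynomial.X 0 + MvPolynomial.X 1) ^ p =
      MvPolynomial.X 0 ^ p + MvPolynomial.X 1 ^ p + (p : MvPolynomial (Fin 2) ℤ) * q :=
    exists_add_pow_prime_eq hp.out _ _ |>.imp' (fun r => MvPolynomial.X 0 * MvPolynomial.X 1 * r) fun r hr => by
      rw [hr]; ring
  refine ⟨q, fun R _ x y => ?_, fun i => ?_⟩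
  · simpa using congrArg (MvPolynomial.aeval ![x, y]) hq
  · have h := congrArg (MvPolynomial.pderiv i) hq
    apply mul_left_cancel₀ (Nat.cast_ne_zero.2 hp.out.ne_zero : (p : MvPolynomial (Fin 2) ℤ) ≠ 0)
    simp only [Derivation.leibniz, Derivation.map_natCast, smul_eq_mul, mul_zero, add_zero, map_add,
      Derivation.leibniz_pow, nsmul_eq_mul, MvPolynomial.pderiv_X] at h
    fin_cases i <;> simp [-mul_eq_mul_left_iff] at h ⊢ <;> linear_combination -h

theorem chain_two (q : MvPolynomial (Fin 2) ℤ) (f g : A) :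
    KaehlerDifferential.D k A (MvPolynomial.aeval ![f, g] q) =
      MvPolynomial.aeval ![f, g] (MvPolynomial.pderiv 0 q) • KaehlerDifferential.D k A f +
        MvPolynomial.aeval ![f, g] (MvPolynomial.pderiv 1 q) • KaehlerDifferential.D k A g := by
  induction q using MvPolynomial.induction_on with
  | C a =>
    rw [MvPolynomial.pderiv_C, MvPolynomial.pderiv_C, map_zero, zero_smul, zero_smul, add_zero]
    simp
  | add P Q hP hQ => simp only [map_add, hP, hQ, add_smul]; abel
  | mul_X P i hP =>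
    simp only [map_mul, MvPolynomial.aeval_X, Derivation.leibniz, hP, MvPolynomial.pderiv_X, smul_eq_mul,
      map_add, add_smul, mul_smul, smul_add]
    fin_cases i <;> simp <;> abel

/-- The derivation of a Frobenius lift. -/
noncomputable def φder {Φ : T →+* T} (hΦ : IsFrob (p := p) π Φ) :
    @Derivation k A (Tw p (Ω[A⁄k])) _ _ _ _ _ (Module.compHom _ (algebraMap k A)) :=
  letI : Module k (Tw p (Ω[A⁄k])) := Module.compHom _ (algebraMap k A)
  have hadd : ∀ a b, φfun (k := k) hT hΦ (a + b) = φfun hT hΦ a + φfun hT hΦ b := fun a b => by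
    obtain ⟨x, rfl⟩ := hT.surj a
    obtain ⟨y, rfl⟩ := hT.surj b
    obtain ⟨c, hc⟩ := exists_w hT hΦ x
    obtain ⟨c', hc'⟩ := exists_w hT hΦ y
    obtain ⟨q, hq, hq'⟩ := exists_poly (p := p)
    have hev : π (MvPolynomial.aeval ![x, y] q) = MvPolynomial.aeval ![π x, π y] q := by
      show π.toIntAlgHom (MvPolynomial.aeval ![x, y] q) = _
      rw [← AlgHom.comp_apply, MvPolynomial.comp_aeval]
      congr 2
      funext i
      fin_cases i <;> rfl
    rw [φfun_eq hT hΦ (map_add π x y) (c := c + c' - MvPolynomial.aeval ![x, y] q)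
        (by rw [map_add, hq T x y, mul_sub, mul_add, ← hc, ← hc']; ring),
      φfun_eq hT hΦ rfl hc, φfun_eq hT hΦ rfl hc', ← map_add (toTw p)]
    congr 1
    simp only [map_sub, map_add, hev, chain_two, hq']
    simp only [map_sub, map_pow, map_add, MvPolynomial.aeval_X, Matrix.cons_val_zero, Matrix.cons_val_one,
      Matrix.cons_val_fin_one, sub_smul, smul_add]
    abel
  have hmul : ∀ a b, φfun (k := k) hT hΦ (a * b) = a • φfun hT hΦ b + b • φfun hT hΦ a := fun a b => by
    obtain ⟨x, rfl⟩ := hT.surj a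
    obtain ⟨y, rfl⟩ := hT.surj b
    obtain ⟨c, hc⟩ := exists_w hT hΦ x
    obtain ⟨c', hc'⟩ := exists_w hT hΦ y
    rw [φfun_eq hT hΦ (map_mul π x y) (c := x ^ p * c' + y ^ p * c)
        (by rw [map_mul, show Φ x = x ^ p + (p : T) * c by rw [← hc]; ring,
          show Φ y = y ^ p + (p : T) * c' by rw [← hc']; ring]; linear_combination (c * c') * hT.sq),
      φfun_eq hT hΦ rfl hc, φfun_eq hT hΦ rfl hc', toTw_smul, toTw_smul, ← map_add (toTw p)]
    congr 1
    simp only [map_add, map_mul, map_pow, Derivation.leibniz, D_pow_p, smul_zero, add_zero, mul_pow]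
    simp only [smul_add, smul_smul, ← pow_pred_mul (p := p) (π x), ← pow_pred_mul (p := p) (π y), mul_comm,
      mul_assoc, mul_left_comm]
    abel
  have h1 : φfun (k := k) hT hΦ 1 = 0 := by
    have h := hmul 1 1
    rwa [one_smul, one_mul, left_eq_add] at h
  have hconst : ∀ c : k, φfun (k := k) hT hΦ (algebraMap k A c) = 0 := fun c => by
    obtain ⟨e, rfl⟩ : ∃ e, e ^ p = c := ⟨(frobeniusEquiv k p).symm c, frobeniusEquiv_symm_pow_p k p c⟩
    have hpow : ∀ (x : A) (m : ℕ), φfun (k := k) hT hΦ (x ^ (m + 1)) = ((m + 1 : ℕ) : A) • x ^ m • φfun hT hΦ x := by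
      intro x m
      induction m with
      | zero => simp
      | succ m ih =>
        rw [pow_succ x (m + 1), hmul, ih, smul_smul, smul_smul, smul_smul, ← add_smul]
        congr 1
        push_cast
        ring
    obtain ⟨m, hm⟩ : ∃ m, p = m + 1 := ⟨p - 1, (Nat.succ_pred_eq_of_ne_zero hp.out.ne_zero).symm⟩
    rw [map_pow, show algebraMap k A e ^ p = algebraMap k A e ^ (m + 1) from congrArg _ hm, hpow, ← hm, h0.out,
      zero_smul]
  { toFun := φfun hT hΦ
    map_add' := hadd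
    map_smul' := fun c a => by
      rw [Algebra.smul_def, hmul, hconst, smul_zero, add_zero, RingHom.id_apply]
      rfl
    map_one_eq_zero' := h1
    leibniz' := hmul }

/-- The linear map of a Frobenius lift. -/
noncomputable def φlin {Φ : T →+* T} (hΦ : IsFrob (p := p) π Φ) : Ω[A⁄k] →ₗ[A] Tw p (Ω[A⁄k]) :=
  letI : Module k (Tw p (Ω[A⁄k])) := Module.compHom _ (algebraMap k A)
  haveI : IsScalarTower k A (Tw p (Ω[A⁄k])) := ⟨fun c a x => by
    show (c • a) • x = algebraMap k A c • a • x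
    rw [Algebra.smul_def, mul_smul]⟩
  (φder hT hΦ).liftKaehlerDifferential

theorem φlin_D {Φ : T →+* T} (hΦ : IsFrob (p := p) π Φ) {t c : T} (h : Φ t - t ^ p = (p : T) * c) :
    (toTw p).symm (φlin (k := k) hT hΦ (KaehlerDifferential.D k A (π t))) =
      π t ^ (p - 1) • KaehlerDifferential.D k A (π t) + KaehlerDifferential.D k A (π c) := by
  letI : Module k (Tw p (Ω[A⁄k])) := Module.compHom _ (algebraMap k A)
  haveI : IsScalarTower k A (Tw p (Ω[A⁄k])) := ⟨fun c a x => by
    show (c • a) • x = algebraMap k A c • a • x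
    rw [Algebra.smul_def, mul_smul]⟩
  rw [φlin, Derivation.liftKaehlerDifferential_comp_D]
  show (toTw p).symm (φfun hT hΦ (π t)) = _
  rw [φfun_eq hT hΦ rfl h, AddEquiv.symm_apply_apply]

variable {Φ Ψ : T →+* T} (hΦ : IsFrob (p := p) π Φ) (hΨ : IsFrob (p := p) π Ψ)

include hT hΦ hΨ in
theorem exists_diff (t : T) : ∃ c, Φ t - Ψ t = (p : T) * c := hT.dvd _ (by rw [map_sub, hΦ, hΨ, sub_self])

include hT hΦ hΨ in
theorem diff_congr {t t' : T} (ht : π t = π t') {c c' : T} (hc : Φ t - Ψ t = (p : T) * c)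
    (hc' : Φ t' - Ψ t' = (p : T) * c') : π c = π c' := by
  obtain ⟨e, he⟩ := hT.dvd (t' - t) (by rw [map_sub, ht, sub_self])
  refine w_unique hT ?_
  have he' := eq_add_of_sub_eq' he
  rw [← hc, ← hc', he', map_add, map_add, map_mul, map_mul, map_natCast, map_natCast, p_mul_Φ hT hΦ, p_mul_Φ hT hΨ]
  ring

/-- The homotopy of two Frobenius lifts, on elements. -/
noncomputable def hfun (a : A) : Tw p A := toTw p (π (exists_diff hT hΦ hΨ (hT.surj a).choose).choose)

theorem hfun_eq {a : A} {t c : T} (ht : π t = a) (h : Φ t - Ψ t = (p : T) * c) :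
    hfun hT hΦ hΨ a = toTw p (π c) :=
  congrArg _ (diff_congr hT hΦ hΨ ((hT.surj a).choose_spec.trans ht.symm) (exists_diff hT hΦ hΨ _).choose_spec h)

variable (k) in
/-- The homotopy of two Frobenius lifts. -/
noncomputable def hder : @Derivation k A (Tw p A) _ _ _ _ _ (Module.compHom _ (algebraMap k A)) :=
  letI : Module k (Tw p A) := Module.compHom _ (algebraMap k A)
  have hadd : ∀ a b, hfun hT hΦ hΨ (a + b) = hfun hT hΦ hΨ a + hfun hT hΦ hΨ b := fun a b => by
    obtain ⟨x, rfl⟩ := hT.surj a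
    obtain ⟨y, rfl⟩ := hT.surj b
    obtain ⟨c, hc⟩ := exists_diff hT hΦ hΨ x
    obtain ⟨c', hc'⟩ := exists_diff hT hΦ hΨ y
    rw [hfun_eq hT hΦ hΨ (map_add π x y) (c := c + c') (by rw [map_add, map_add, mul_add, ← hc, ← hc']; ring),
      hfun_eq hT hΦ hΨ rfl hc, hfun_eq hT hΦ hΨ rfl hc', map_add, map_add]
  have hmul : ∀ a b, hfun hT hΦ hΨ (a * b) = a • hfun hT hΦ hΨ b + b • hfun hT hΦ hΨ a := fun a b => by
    obtain ⟨x, rfl⟩ := hT.surj a
    obtain ⟨y, rfl⟩ := hT.surj b
    obtain ⟨c, hc⟩ := exists_diff hT hΦ hΨ x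
    obtain ⟨c', hc'⟩ := exists_diff hT hΦ hΨ y
    rw [hfun_eq hT hΦ hΨ (map_mul π x y) (c := Φ x * c' + Ψ y * c)
        (by rw [map_mul, map_mul, mul_add, mul_left_comm, ← hc', mul_left_comm (p : T), ← hc]; ring),
      hfun_eq hT hΦ hΨ rfl hc, hfun_eq hT hΦ hΨ rfl hc', toTw_smul, toTw_smul, map_add, map_mul, map_mul, hΦ, hΨ,
      map_add]
    rfl
  { toFun := hfun hT hΦ hΨ
    map_add' := hadd
    map_smul' := fun c a => by
      obtain ⟨e, rfl⟩ : ∃ e, e ^ p = c := ⟨(frobeniusEquiv k p).symm c, frobeniusEquiv_symm_pow_p k p c⟩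
      obtain ⟨m, hm⟩ : ∃ m, p = m + 1 := ⟨p - 1, (Nat.succ_pred_eq_of_ne_zero hp.out.ne_zero).symm⟩
      have hpow : ∀ (x : A) (n : ℕ), hfun hT hΦ hΨ (x ^ (n + 1)) = ((n + 1 : ℕ) : A) • x ^ n • hfun hT hΦ hΨ x := by
        intro x n
        induction n with
        | zero => simp
        | succ n ih =>
          rw [pow_succ x (n + 1), hmul, ih, smul_smul, smul_smul, smul_smul, ← add_smul]
          congr 1
          push_cast
          ring
      rw [Algebra.smul_def, hmul, map_pow, show algebraMap k A e ^ p = algebraMap k A e ^ (m + 1) from congrArg _ hm,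
        hpow, ← hm, h0.out, zero_smul, smul_zero, add_zero, RingHom.id_apply]
      show _ = algebraMap k A (e ^ p) • hfun hT hΦ hΨ a
      rw [map_pow, show algebraMap k A e ^ p = algebraMap k A e ^ (m + 1) from congrArg _ hm]
    map_one_eq_zero' := by
      have h := hmul 1 1
      show hfun hT hΦ hΨ 1 = 0
      rwa [one_smul, one_mul, left_eq_add] at h
    leibniz' := hmul }

variable (k) in
/-- The linear homotopy. -/
noncomputable def hlin : Ω[A⁄k] →ₗ[A] Tw p A :=
  letI : Module k (Tw p A) := Module.compHom _ (algebraMap k A)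
  haveI : IsScalarTower k A (Tw p A) := ⟨fun c a x => by
    show (c • a) • x = algebraMap k A c • a • x
    rw [Algebra.smul_def, mul_smul]⟩
  (hder k hT hΦ hΨ).liftKaehlerDifferential

theorem hlin_D {t c : T} (h : Φ t - Ψ t = (p : T) * c) :
    (toTw p).symm (hlin k hT hΦ hΨ (KaehlerDifferential.D k A (π t))) = π c := by
  letI : Module k (Tw p A) := Module.compHom _ (algebraMap k A)
  haveI : IsScalarTower k A (Tw p A) := ⟨fun c a x => by
    show (c • a) • x = algebraMap k A c • a • x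
    rw [Algebra.smul_def, mul_smul]⟩
  rw [hlin, Derivation.liftKaehlerDifferential_comp_D]
  show (toTw p).symm (hfun hT hΦ hΨ (π t)) = _
  rw [hfun_eq hT hΦ hΨ rfl h, AddEquiv.symm_apply_apply]

/-- The data of a family of Frobenius lifts. -/
noncomputable def lData {J : Type u} (F : J → T →+* T) (hF : ∀ i, IsFrob (p := p) π (F i)) : LData p k A J where
  φ i := φlin hT (hF i)
  h i j := hlin k hT (hF i) (hF j)
  spec i b := by
    obtain ⟨t, rfl⟩ := hT.surj b
    obtain ⟨c, hc⟩ := exists_w hT (hF i) t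
    exact ⟨π c, φlin_D hT (hF i) hc⟩
  dh i j b := by
    obtain ⟨t, rfl⟩ := hT.surj b
    obtain ⟨c, hc⟩ := exists_w hT (hF i) t
    obtain ⟨c', hc'⟩ := exists_w hT (hF j) t
    rw [hlin_D hT (hF i) (hF j) (c := c - c') (by rw [mul_sub, ← hc, ← hc']; ring), φlin_D hT (hF i) hc,
      φlin_D hT (hF j) hc', map_sub, map_sub]
    abel
  coc i j m b := by
    obtain ⟨t, rfl⟩ := hT.surj b
    obtain ⟨c, hc⟩ := exists_diff hT (hF i) (hF j) t
    obtain ⟨c', hc'⟩ := exists_diff hT (hF j) (hF m) t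
    rw [hlin_D hT (hF i) (hF m) (c := c + c') (by rw [mul_add, ← hc, ← hc']; ring), hlin_D hT (hF i) (hF j) hc,
      hlin_D hT (hF j) (hF m) hc', map_add]

variable {A' T' : Type u} [CommRing A'] [CommRing T'] [Algebra k A'] [Fact ((p : A') = 0)] {π' : T' →+* A'}
  (hT' : Lifting p A' T' π') [Algebra A A'] [IsScalarTower k A A'] {J J' : Type u} (f : J' → J)
  (F : J → T →+* T) (hF : ∀ i, IsFrob (p := p) π (F i)) (F' : J' → T' →+* T') (hF' : ∀ i, IsFrob (p := p) π' (F' i))
  (g : T →+* T') (hg : ∀ t, π' (g t) = algebraMap A A' (π t)) (hcomm : ∀ i t, F' i (g t) = g (F (f i) t))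

include hg hcomm in
theorem lData_φ_natural (i : J') (b : A) : KaehlerDifferential.map k k A A'
    ((toTw p).symm ((lData (k := k) hT F hF).φ (f i) (KaehlerDifferential.D k A b))) =
    (toTw p).symm ((lData (k := k) hT' F' hF').φ i (KaehlerDifferential.D k A' (algebraMap A A' b))) := by
  obtain ⟨t, rfl⟩ := hT.surj b
  obtain ⟨c, hc⟩ := exists_w hT (hF (f i)) t
  show KaehlerDifferential.map k k A A' ((toTw p).symm (φlin hT (hF (f i)) _)) = (toTw p).symm (φlin hT' (hF' i) _)
  rw [φlin_D hT (hF (f i)) hc, ← hg, φlin_D hT' (hF' i) (c := g c) (by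
    rw [hcomm, ← map_pow, ← map_sub, hc, map_mul, map_natCast]), map_add, map_smul, KaehlerDifferential.map_D,
    KaehlerDifferential.map_D, hg, hg, ← algebraMap_smul A' (π t ^ (p - 1)), map_pow]

include hg hcomm in
theorem lData_h_natural (i j : J') (b : A) :
    algebraMap A A' ((toTw p).symm ((lData (k := k) hT F hF).h (f i) (f j) (KaehlerDifferential.D k A b))) =
    (toTw p).symm ((lData (k := k) hT' F' hF').h i j (KaehlerDifferential.D k A' (algebraMap A A' b))) := by
  obtain ⟨t, rfl⟩ := hT.surj b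
  obtain ⟨c, hc⟩ := exists_diff hT (hF (f i)) (hF (f j)) t
  show algebraMap A A' ((toTw p).symm (hlin k hT (hF (f i)) (hF (f j)) _)) =
    (toTw p).symm (hlin k hT' (hF' i) (hF' j) _)
  rw [hlin_D hT (hF (f i)) (hF (f j)) hc, ← hg, ← hg, hlin_D hT' (hF' i) (hF' j) (c := g c) (by
    rw [hcomm, hcomm, ← map_sub, hc, map_mul, map_natCast]), hg]

end Groth.Agent.H27DI
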