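import Groth.Agent.H27DR.Euler
import Groth.Agent.S7778

/-!
# Frobenius-twisted scalars and de Rham forms in characteristic `p`

`Tw p N` is `N` with scalars acting through `b ↦ b ^ p`; the forms `b^(p-1) db` and their wedges.
-/

set_option autoImplicit false
universe u v

open exteriorPower

namespace Groth.Agent.H27DI

/-- The existence of the de Rham differential. -/
theorem exists_isDiff (R A : Type u) [CommRing R] [CommRing A] [Algebra R A] :
    ∃ d : ∀ q : ℕ, ↥(⋀[A]^q (Ω[A⁄R])) →ₗ[R] ↥(⋀[A]^(q + 1) (Ω[A⁄R])),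
      DeRham.IsDiff (KaehlerDifferential.D R A) d := by
  obtain ⟨D, ⟨h0, hmem, hmul, hsq⟩, -⟩ := S7778.result R A
  let d : ∀ q : ℕ, ↥(⋀[A]^q (Ω[A⁄R])) →ₗ[R] ↥(⋀[A]^(q + 1) (Ω[A⁄R])) := fun q =>
    { toFun := fun x => ⟨D x.1, hmem q x.1 x.2⟩
      map_add' := fun x y => Subtype.ext (map_add D x.1 y.1)
      map_smul' := fun r x => Subtype.ext (map_smul D r x.1) }
  refine ⟨d, fun q b₀ b => Subtype.ext ?_, fun q => LinearMap.ext fun x => Subtype.ext (hsq x.1)⟩
  have hb : ∀ (m : ℕ) (c : Fin m → A),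
      D (ιMulti A m (fun i => KaehlerDifferential.D R A (c i)) : ExteriorAlgebra A (Ω[A⁄R])) = 0 := by
    intro m
    induction m with
    | zero =>
      intro c
      have h1 : D (algebraMap A (ExteriorAlgebra A (Ω[A⁄R])) 1) = 0 := by rw [h0, Derivation.map_one_eq_zero, map_zero]
      simpa [exteriorPower.ιMulti_apply_coe, ExteriorAlgebra.ιMulti_zero_apply] using h1
    | succ m ih =>
      intro c
      have hc : (fun i => KaehlerDifferential.D R A (c i)) = Fin.cons (KaehlerDifferential.D R A (c 0))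
          (fun i => KaehlerDifferential.D R A (Fin.tail c i)) := by
        funext i; refine Fin.cases ?_ ?_ i <;> simp [Fin.tail]
      rw [hc, H27DR.coe_cons, hmul 1 _ _ (by rw [ExteriorAlgebra.exteriorPower, pow_one]; exact LinearMap.mem_range_self _ _),
        ih, mul_zero, add_zero]
      rw [show ExteriorAlgebra.ι A (KaehlerDifferential.D R A (c 0)) = D (algebraMap A _ (c 0)) from (h0 _).symm, hsq,
        zero_mul]
  show D ((b₀ • ιMulti A q (fun i => KaehlerDifferential.D R A (b i)) : ↥(⋀[A]^q (Ω[A⁄R]))) : ExteriorAlgebra A (Ω[A⁄R])) = _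
  rw [Submodule.coe_smul, Algebra.smul_def,
    hmul 0 _ _ (by rw [ExteriorAlgebra.exteriorPower, pow_zero]; exact Submodule.mem_one.2 ⟨b₀, rfl⟩),
    h0, hb, mul_zero, add_zero, H27DR.coe_cons]

variable (p : ℕ) [hp : Fact p.Prime]

/-- The `p`-th power map as a ring homomorphism. -/
def frobC (C : Type u) [CommRing C] [h0 : Fact ((p : C) = 0)] : C →+* C where
  toFun x := x ^ p
  map_one' := one_pow p
  map_mul' x y := mul_pow x y p
  map_zero' := zero_pow hp.out.ne_zero
  map_add' x y := by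
    rw [add_pow_prime_eq hp.out x y, h0.out]
    ring

theorem frobC_apply {C : Type u} [CommRing C] [Fact ((p : C) = 0)] (x : C) : frobC p C x = x ^ p := rfl

/-- `N` with scalars acting through the `p`-th power. -/
@[nolint unusedArguments]
def Tw (_ : ℕ) (N : Type u) : Type u := N

instance (N : Type u) [AddCommGroup N] : AddCommGroup (Tw p N) := inferInstanceAs (AddCommGroup N)

/-- The identification. -/
def toTw {N : Type u} [AddCommGroup N] : N ≃+ Tw p N := AddEquiv.refl N

section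

variable {C : Type u} [CommRing C] [Fact ((p : C) = 0)] {N : Type u} [AddCommGroup N] [Module C N]

instance instModuleTwC : Module C (Tw p N) := Module.compHom N (frobC p C)

theorem toTw_smul (c : C) (x : N) : c • toTw p x = toTw p (c ^ p • x) := rfl

theorem toTw_symm_smul (c : C) (x : Tw p N) : (toTw p).symm (c • x) = c ^ p • (toTw p).symm x := rfl

variable {M : Type u} [AddCommGroup M] [Module C M]

/-- A semilinear additive map as a linear map into the twist. -/
def twLift (f : M →+ N) (hf : ∀ (c : C) x, f (c • x) = c ^ p • f x) : M →ₗ[C] Tw p N where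
  toFun x := toTw p (f x)
  map_add' x y := by rw [map_add, map_add]
  map_smul' c x := by rw [hf, RingHom.id_apply, toTw_smul]

variable {φ : M →ₗ[C] Tw p N}

/-- The exterior power of a semilinear map. -/
noncomputable def extAlt (φ : M →ₗ[C] Tw p N) (a : ℕ) : M [⋀^Fin a]→ₗ[C] Tw p ↥(⋀[C]^a N) where
  toFun v := toTw p (ιMulti C a fun i => (toTw p).symm (φ (v i)))
  map_update_add' v i x y := by
    classical
    have h : ∀ z, (fun j => (toTw p).symm (φ (Function.update v i z j))) =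
        Function.update (fun j => (toTw p).symm (φ (v j))) i ((toTw p).symm (φ z)) := fun z => by
      funext j; by_cases hj : j = i <;> simp [hj]
    rw [h, h, h, map_add, map_add, (ιMulti C a).map_update_add, map_add]
  map_update_smul' v i c x := by
    classical
    have h : ∀ z, (fun j => (toTw p).symm (φ (Function.update v i z j))) =
        Function.update (fun j => (toTw p).symm (φ (v j))) i ((toTw p).symm (φ z)) := fun z => by
      funext j; by_cases hj : j = i <;> simp [hj]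
    rw [h, h, map_smul, toTw_symm_smul, (ιMulti C a).map_update_smul, toTw_smul]
  map_eq_zero_of_eq' v i j h hij := by
    rw [(ιMulti C a).map_eq_zero_of_eq _ (by simp [h]) hij, map_zero]

/-- The exterior power of a semilinear map. -/
noncomputable def extPow (φ : M →ₗ[C] Tw p N) (a : ℕ) : ↥(⋀[C]^a M) →ₗ[C] Tw p ↥(⋀[C]^a N) :=
  exteriorPower.alternatingMapLinearEquiv (extAlt p φ a)

theorem extPow_ιMulti (φ : M →ₗ[C] Tw p N) (a : ℕ) (v : Fin a → M) :
    (toTw p).symm (extPow p φ a (ιMulti C a v)) = ιMulti C a fun i => (toTw p).symm (φ (v i)) := by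
  rw [extPow, exteriorPower.alternatingMapLinearEquiv_apply_ιMulti]
  rfl

theorem extPow_smul (φ : M →ₗ[C] Tw p N) (a : ℕ) (c : C) (x : ↥(⋀[C]^a M)) :
    (toTw p).symm (extPow p φ a (c • x)) = c ^ p • (toTw p).symm (extPow p φ a x) := by
  rw [map_smul, toTw_symm_smul]

end

section Forms

variable {p} {k : Type u} [CommRing k] {C : Type u} [CommRing C] [Algebra k C] [h0 : Fact ((p : C) = 0)]
  {d : ∀ q : ℕ, ↥(⋀[C]^q (Ω[C⁄k])) →ₗ[k] ↥(⋀[C]^(q + 1) (Ω[C⁄k]))}
  (hd : DeRham.IsDiff (KaehlerDifferential.D k C) d)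

include h0 in
omit hp in
theorem D_pow_p (c : C) : KaehlerDifferential.D k C (c ^ p) = 0 := by
  rw [Derivation.leibniz_pow, ← Nat.cast_smul_eq_nsmul C, h0.out, zero_smul]

include hd h0 in
omit hp in
theorem d_pow_smul (q : ℕ) (c : C) (x : ↥(⋀[C]^q (Ω[C⁄k]))) : d q (c ^ p • x) = c ^ p • d q x := by
  rw [H27DR.d_smul _ d (H27DR.kaehler_span k C) hd.1, D_pow_p]
  simp [show H27DR.lwedge q (0 : Ω[C⁄k]) x = 0 from Subtype.ext (by rw [H27DR.coe_lwedge]; simp)]

include hd h0 in
theorem pow_smul_mem_coboundaries : ∀ {q : ℕ} (c : C) {x : ↥(⋀[C]^q (Ω[C⁄k]))},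
    x ∈ DeRham.coboundaries d q → c ^ p • x ∈ DeRham.coboundaries d q
  | 0, c, x, hx => by rw [(Submodule.mem_bot k).1 hx, smul_zero]; exact zero_mem _
  | q + 1, c, _, ⟨y, rfl⟩ => ⟨c ^ p • y, d_pow_smul hd q c y⟩

/-- The wedge of the forms `b^(p-1) db`. -/
noncomputable def cl (p : ℕ) (a : ℕ) (b : Fin a → C) : ↥(⋀[C]^a (Ω[C⁄k])) :=
  (∏ i, b i ^ (p - 1)) • ιMulti C a fun i => KaehlerDifferential.D k C (b i)

include hd in
theorem d_one_smul_D (q : ℕ) (u v : C) (x : ↥(⋀[C]^q (Ω[C⁄k]))) :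
    d (q + 1) (H27DR.lwedge q (u • KaehlerDifferential.D k C v) x) =
      H27DR.lwedge (q + 1) (KaehlerDifferential.D k C u) (H27DR.lwedge q (KaehlerDifferential.D k C v) x) -
        H27DR.lwedge (q + 1) (u • KaehlerDifferential.D k C v) (d q x) := by
  have hl : ∀ (q : ℕ) (y : ↥(⋀[C]^q (Ω[C⁄k]))), H27DR.lwedge q (u • KaehlerDifferential.D k C v) y =
      u • H27DR.lwedge q (KaehlerDifferential.D k C v) y := fun q y => Subtype.ext (by
    rw [H27DR.coe_lwedge, Submodule.coe_smul, H27DR.coe_lwedge, map_smul, smul_mul_assoc])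
  rw [hl, hl, H27DR.d_smul _ d (H27DR.kaehler_span k C) hd.1, H27DR.d_lwedge _ d (H27DR.kaehler_span k C) hd.1,
    smul_neg, sub_eq_add_neg]

theorem lwedge_self (q : ℕ) (w : Ω[C⁄k]) (x : ↥(⋀[C]^q (Ω[C⁄k]))) :
    H27DR.lwedge (q + 1) w (H27DR.lwedge q w x) = 0 := Subtype.ext (by
  rw [H27DR.coe_lwedge, H27DR.coe_lwedge, ← mul_assoc, ExteriorAlgebra.ι_sq_zero, zero_mul]; rfl)

theorem lwedge_D_pow (q : ℕ) (v : C) (m : ℕ) (x : ↥(⋀[C]^q (Ω[C⁄k]))) :
    H27DR.lwedge (q + 1) (KaehlerDifferential.D k C (v ^ m)) (H27DR.lwedge q (KaehlerDifferential.D k C v) x) = 0 := by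
  have hl : ∀ (c : C) (w : Ω[C⁄k]) (y : ↥(⋀[C]^(q + 1) (Ω[C⁄k]))),
      H27DR.lwedge (q + 1) (c • w) y = c • H27DR.lwedge (q + 1) w y := fun c w y => Subtype.ext (by
    rw [H27DR.coe_lwedge, Submodule.coe_smul, H27DR.coe_lwedge, map_smul, smul_mul_assoc])
  rw [Derivation.leibniz_pow, ← Nat.cast_smul_eq_nsmul C, smul_smul, hl, lwedge_self, smul_zero]

include hd in
omit hp h0 in
/-- Left multiplication by `b^(p-1) db + dw` anticommutes with `d`. -/
theorem d_lwedge_cartier (q : ℕ) (b w : C) (x : ↥(⋀[C]^q (Ω[C⁄k]))) :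
    d (q + 1) (H27DR.lwedge q (b ^ (p - 1) • KaehlerDifferential.D k C b + KaehlerDifferential.D k C w) x) =
      - H27DR.lwedge (q + 1) (b ^ (p - 1) • KaehlerDifferential.D k C b + KaehlerDifferential.D k C w) (d q x) := by
  have hl : ∀ (q : ℕ) (θ θ' : Ω[C⁄k]) (y : ↥(⋀[C]^q (Ω[C⁄k]))),
      H27DR.lwedge q (θ + θ') y = H27DR.lwedge q θ y + H27DR.lwedge q θ' y := fun q θ θ' y => Subtype.ext (by
    rw [H27DR.coe_lwedge, Submodule.coe_add, H27DR.coe_lwedge, H27DR.coe_lwedge, map_add, add_mul])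
  rw [hl, hl, map_add, d_one_smul_D hd, lwedge_D_pow, zero_sub, H27DR.d_lwedge _ d (H27DR.kaehler_span k C) hd.1,
    neg_add]

variable (φ : Ω[C⁄k] →ₗ[C] Tw p (Ω[C⁄k]))
  (hφ : ∀ b : C, ∃ w : C, (toTw p).symm (φ (KaehlerDifferential.D k C b)) =
    b ^ (p - 1) • KaehlerDifferential.D k C b + KaehlerDifferential.D k C w)

include hd hφ in
theorem d_extPow : ∀ (a : ℕ) (x : ↥(⋀[C]^a (Ω[C⁄k]))), d a ((toTw p).symm (extPow p φ a x)) = 0 := by
  have hgen : ∀ (a : ℕ) (b : Fin a → C),
      d a (ιMulti C a fun i => (toTw p).symm (φ (KaehlerDifferential.D k C (b i)))) = 0 := by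
    intro a
    induction a with
    | zero =>
      intro b
      have h := hd.1 0 1 ![]
      rw [DeRham.gen, one_smul, Derivation.map_one_eq_zero] at h
      convert h using 2
      · congr 1; funext i; exact i.elim0
      · exact ((ιMulti C 1).map_coord_zero 0 (by simp)).symm
    | succ a ih =>
      intro b
      obtain ⟨w, hw⟩ := hφ (b 0)
      rw [show (fun i => (toTw p).symm (φ (KaehlerDifferential.D k C (b i)))) =
        Fin.cons ((toTw p).symm (φ (KaehlerDifferential.D k C (b 0))))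
          (fun i => (toTw p).symm (φ (KaehlerDifferential.D k C (b i.succ)))) from
        funext fun i => by refine Fin.cases ?_ ?_ i <;> simp, ← H27DR.lwedge_ιMulti, hw, d_lwedge_cartier hd,
        ih fun i => b i.succ, map_zero, neg_zero]
  intro a x
  refine H27DR.gen_induction (KaehlerDifferential.D k C) (H27DR.kaehler_span k C) a
    (P := fun x => d a ((toTw p).symm (extPow p φ a x)) = 0) ?_ (by simp)
    (fun x y hx hy => by rw [map_add, map_add, map_add, hx, hy, add_zero]) x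
  intro b₀ b
  rw [DeRham.gen, extPow_smul, extPow_ιMulti, d_pow_smul hd, hgen, smul_zero]

include hd hφ in
/-- The exterior powers of `φ` send `∧ db` to `∧ b^(p-1) db` up to an exact form. -/
theorem extPow_sub_cl : ∀ (a : ℕ) (b : Fin a → C),
    (toTw p).symm (extPow p φ a (ιMulti C a fun i => KaehlerDifferential.D k C (b i))) - cl p a b ∈
      DeRham.coboundaries d a := by
  intro a
  induction a with
  | zero => intro b; rw [extPow_ιMulti, cl]; simp; rw [show (fun i : Fin 0 => _) = fun i => KaehlerDifferential.D k C (b i) from funext fun i => i.elim0, sub_self]; exact zero_mem _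
  | succ a ih =>
    intro b
    obtain ⟨w, hw⟩ := hφ (b 0)
    have hc : ∀ (F : Ω[C⁄k] → Ω[C⁄k]), (fun i => F (KaehlerDifferential.D k C (b i))) =
        Fin.cons (F (KaehlerDifferential.D k C (b 0))) (fun i => F (KaehlerDifferential.D k C (b i.succ))) :=
      fun F => funext fun i => by refine Fin.cases ?_ ?_ i <;> simp
    set θ := b 0 ^ (p - 1) • KaehlerDifferential.D k C (b 0) + KaehlerDifferential.D k C w with hθ
    have h1 : (toTw p).symm (extPow p φ (a + 1) (ιMulti C (a + 1) fun i => KaehlerDifferential.D k C (b i))) =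
        H27DR.lwedge a θ ((toTw p).symm (extPow p φ a (ιMulti C a fun i => KaehlerDifferential.D k C (b i.succ)))) := by
      rw [extPow_ιMulti, extPow_ιMulti, hc fun ω => (toTw p).symm (φ ω), H27DR.lwedge_ιMulti, hw]
    have hcl : d a (cl p a fun i => b i.succ) = 0 := by
      have h := ih fun i => b i.succ
      have h' : ∀ x ∈ DeRham.coboundaries d a, d a x = 0 := by
        intro x hx
        cases a with
        | zero => rw [(Submodule.mem_bot k).1 hx, map_zero]
        | succ a => obtain ⟨y, rfl⟩ := hx; exact LinearMap.congr_fun (hd.2 a) y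
      have h2 := h' _ h
      rwa [map_sub, d_extPow hd φ hφ, zero_sub, neg_eq_zero] at h2
    have h2 : cl p (a + 1) b = H27DR.lwedge a (b 0 ^ (p - 1) • KaehlerDifferential.D k C (b 0)) (cl p a fun i => b i.succ) := by
      refine Subtype.ext ?_
      rw [cl, (hc fun ω => ω), H27DR.coe_lwedge, cl, Submodule.coe_smul, Submodule.coe_smul, H27DR.coe_cons, Fin.prod_univ_succ,
        map_smul, smul_mul_assoc, mul_smul_comm, smul_smul]
    obtain ⟨ξ, hξ⟩ : ∃ ξ, d a ξ = H27DR.lwedge a (KaehlerDifferential.D k C w) (cl p a fun i => b i.succ) :=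
      ⟨w • cl p a fun i => b i.succ, by rw [H27DR.d_smul _ d (H27DR.kaehler_span k C) hd.1, hcl, smul_zero, add_zero]⟩
    have hl : ∀ (y : ↥(⋀[C]^a (Ω[C⁄k]))), H27DR.lwedge a θ y =
        H27DR.lwedge a (b 0 ^ (p - 1) • KaehlerDifferential.D k C (b 0)) y + H27DR.lwedge a (KaehlerDifferential.D k C w) y :=
      fun y => Subtype.ext (by
        rw [H27DR.coe_lwedge, Submodule.coe_add, H27DR.coe_lwedge, H27DR.coe_lwedge, hθ, map_add, add_mul])
    have key : H27DR.lwedge a θ ((toTw p).symm (extPow p φ a (ιMulti C a fun i => KaehlerDifferential.D k C (b i.succ))) -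
        cl p a fun i => b i.succ) ∈ DeRham.coboundaries d (a + 1) := by
      cases a with
      | zero => rw [(Submodule.mem_bot k).1 (ih fun i => b i.succ), map_zero]; exact zero_mem _
      | succ a =>
        obtain ⟨y, hy⟩ := ih fun i => b i.succ
        refine ⟨-H27DR.lwedge a θ y, ?_⟩
        rw [map_neg, hθ, d_lwedge_cartier hd, neg_neg, hy]
    rw [map_sub] at key
    rw [h1, h2]
    have := add_mem key ⟨ξ, hξ⟩
    rwa [hl (cl p a fun i => b i.succ), sub_add_eq_sub_sub, sub_add_cancel] at this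

end Forms

/-- A map of de Rham complexes is semilinear. -/
theorem cxMap_smul {R : Type u} {A : Type u} {R' : Type u} {A' : Type u} [CommRing R] [CommRing A] [Algebra R A]
    [CommRing R'] [CommRing A'] [Algebra R' A'] (g : A →+* A')
    {ψ : ∀ q : ℕ, ↥(⋀[A]^q (Ω[A⁄R])) →+ ↥(⋀[A']^q (Ω[A'⁄R']))}
    (hψ : DeRham.IsCxMap (KaehlerDifferential.D R A) (KaehlerDifferential.D R' A') g ψ) (q : ℕ) (c : A)
    (x : ↥(⋀[A]^q (Ω[A⁄R]))) : ψ q (c • x) = g c • ψ q x := by
  refine H27DR.gen_induction (KaehlerDifferential.D R A) (H27DR.kaehler_span R A) q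
    (P := fun x => ψ q (c • x) = g c • ψ q x) ?_ (by simp) (fun x y hx hy => by simp only [smul_add, map_add, hx, hy]) x
  intro b₀ b
  rw [show c • DeRham.gen (KaehlerDifferential.D R A) q b₀ b = DeRham.gen (KaehlerDifferential.D R A) q (c * b₀) b from
    smul_smul c b₀ _, hψ, hψ, DeRham.gen, DeRham.gen, map_mul, smul_smul]

theorem cxMap_mem_coboundaries {R A R' A' : Type u} [CommRing R] [CommRing A] [Algebra R A] [CommRing R'] [CommRing A']
    [Algebra R' A'] (g : A →+* A')
    {ψ : ∀ q : ℕ, ↥(⋀[A]^q (Ω[A⁄R])) →+ ↥(⋀[A']^q (Ω[A'⁄R']))}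
    (hψ : DeRham.IsCxMap (KaehlerDifferential.D R A) (KaehlerDifferential.D R' A') g ψ)
    {d : ∀ q : ℕ, ↥(⋀[A]^q (Ω[A⁄R])) →ₗ[R] ↥(⋀[A]^(q + 1) (Ω[A⁄R]))} (hd : DeRham.IsDiff (KaehlerDifferential.D R A) d)
    {d' : ∀ q : ℕ, ↥(⋀[A']^q (Ω[A'⁄R'])) →ₗ[R'] ↥(⋀[A']^(q + 1) (Ω[A'⁄R']))}
    (hd' : DeRham.IsDiff (KaehlerDifferential.D R' A') d') :
    ∀ {q : ℕ} {x : ↥(⋀[A]^q (Ω[A⁄R]))}, x ∈ DeRham.coboundaries d q → ψ q x ∈ DeRham.coboundaries d' q
  | 0, x, hx => by rw [(Submodule.mem_bot R).1 hx, map_zero]; exact zero_mem _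
  | q + 1, _, ⟨y, rfl⟩ => ⟨ψ q y, (H27DR.cxMap_comm _ (H27DR.kaehler_span R A) _ g d hd.1 d' hd'.1 ψ hψ q y).symm⟩

end Groth.Agent.H27DI
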