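import Groth.Agent.H27DI.Flat
import Groth.Agent.H27DI.Tw
import Mathlib.LinearAlgebra.Alternating.Basic

/-!
# The Deligne–Illusie classes on one algebra

From semilinear lifts `φ i` of the inverse Cartier operator and homotopies `h i j` between them we build,
in every degree, a Čech–de Rham cocycle depending semilinearly on a form.
-/

set_option autoImplicit false
universe u

open exteriorPower

namespace Groth.Agent.H27DI

variable (p : ℕ) [hp : Fact p.Prime] (k : Type u) [CommRing k] (B : Type u) [CommRing B] [Algebra k B]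
  [h0 : Fact ((p : B) = 0)]

/-- Lifts of the inverse Cartier operator with their homotopies. -/
structure LData (J : Type u) where
  φ : J → (Ω[B⁄k] →ₗ[B] Tw p (Ω[B⁄k]))
  h : J → J → (Ω[B⁄k] →ₗ[B] Tw p B)
  spec : ∀ (i : J) (b : B), ∃ w : B, (toTw p).symm (φ i (KaehlerDifferential.D k B b)) =
    b ^ (p - 1) • KaehlerDifferential.D k B b + KaehlerDifferential.D k B w
  dh : ∀ (i j : J) (b : B), KaehlerDifferential.D k B ((toTw p).symm (h i j (KaehlerDifferential.D k B b))) =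
    (toTw p).symm (φ i (KaehlerDifferential.D k B b)) - (toTw p).symm (φ j (KaehlerDifferential.D k B b))
  coc : ∀ (i j m : J) (b : B), (toTw p).symm (h i m (KaehlerDifferential.D k B b)) =
    (toTw p).symm (h i j (KaehlerDifferential.D k B b)) + (toTw p).symm (h j m (KaehlerDifferential.D k B b))

variable {p k B} {J : Type u} (L : LData p k B J)

/-- The cochains. -/
abbrev NJ (p : ℕ) (k B : Type u) [CommRing k] [CommRing B] [Algebra k B] (J : Type u) : Type u :=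
  ∀ a : ℕ, List J → Tw p ↥(⋀[B]^a (Ω[B⁄k]))

namespace LData

theorem dh_all (i j : J) (ω : Ω[B⁄k]) : KaehlerDifferential.D k B ((toTw p).symm (L.h i j ω)) =
    (toTw p).symm (L.φ i ω) - (toTw p).symm (L.φ j ω) := by
  refine Submodule.span_induction (p := fun ω _ => KaehlerDifferential.D k B ((toTw p).symm (L.h i j ω)) =
    (toTw p).symm (L.φ i ω) - (toTw p).symm (L.φ j ω)) ?_ (by simp) ?_ ?_
    ((KaehlerDifferential.span_range_derivation k B).ge trivial : ω ∈ _)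
  · rintro _ ⟨b, rfl⟩
    exact L.dh i j b
  · intro x y _ _ hx hy
    simp only [map_add, hx, hy]
    abel
  · intro c x _ hx
    simp only [map_smul, toTw_symm_smul, smul_eq_mul]
    rw [Derivation.leibniz, D_pow_p, smul_zero, add_zero, hx, smul_sub]

theorem coc_all (i j m : J) (ω : Ω[B⁄k]) :
    (toTw p).symm (L.h i m ω) = (toTw p).symm (L.h i j ω) + (toTw p).symm (L.h j m ω) := by
  refine Submodule.span_induction (p := fun ω _ => (toTw p).symm (L.h i m ω) =
    (toTw p).symm (L.h i j ω) + (toTw p).symm (L.h j m ω)) ?_ (by simp) ?_ ?_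
    ((KaehlerDifferential.span_range_derivation k B).ge trivial : ω ∈ _)
  · rintro _ ⟨b, rfl⟩
    exact L.coc i j m b
  · intro x y _ _ hx hy
    simp only [map_add, hx, hy]
    abel
  · intro c x _ hx
    simp only [map_smul, toTw_symm_smul, hx, smul_add]

/-- Wedge with `φ i ω`. -/
noncomputable def lwT (ω : Ω[B⁄k]) (i : J) (a : ℕ) :
    Tw p ↥(⋀[B]^a (Ω[B⁄k])) →+ Tw p ↥(⋀[B]^(a + 1) (Ω[B⁄k])) :=
  (toTw p).toAddMonoidHom.comp
    ((H27DR.lwedge a ((toTw p).symm (L.φ i ω))).toAddMonoidHom.comp (toTw p).symm.toAddMonoidHom)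

/-- Multiplication by `h i j ω`. -/
noncomputable def hmT (ω : Ω[B⁄k]) (i j : J) (a : ℕ) :
    Tw p ↥(⋀[B]^a (Ω[B⁄k])) →+ Tw p ↥(⋀[B]^a (Ω[B⁄k])) :=
  (toTw p).toAddMonoidHom.comp
    ((DistribSMul.toAddMonoidHom _ ((toTw p).symm (L.h i j ω))).comp (toTw p).symm.toAddMonoidHom)

theorem lwT_apply (ω : Ω[B⁄k]) (i : J) (a : ℕ) (x : Tw p ↥(⋀[B]^a (Ω[B⁄k]))) :
    L.lwT ω i a x = toTw p (H27DR.lwedge a ((toTw p).symm (L.φ i ω)) ((toTw p).symm x)) := rfl

theorem hmT_apply (ω : Ω[B⁄k]) (i j : J) (a : ℕ) (x : Tw p ↥(⋀[B]^a (Ω[B⁄k]))) :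
    L.hmT ω i j a x = toTw p ((toTw p).symm (L.h i j ω) • (toTw p).symm x) := rfl

theorem lwedge_add (a : ℕ) (θ θ' : Ω[B⁄k]) (y : ↥(⋀[B]^a (Ω[B⁄k]))) :
    H27DR.lwedge a (θ + θ') y = H27DR.lwedge a θ y + H27DR.lwedge a θ' y := Subtype.ext (by
  rw [H27DR.coe_lwedge, Submodule.coe_add, H27DR.coe_lwedge, H27DR.coe_lwedge, map_add, add_mul])

theorem lwedge_smul (a : ℕ) (c : B) (θ : Ω[B⁄k]) (y : ↥(⋀[B]^a (Ω[B⁄k]))) :
    H27DR.lwedge a (c • θ) y = c • H27DR.lwedge a θ y := Subtype.ext (by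
  rw [H27DR.coe_lwedge, Submodule.coe_smul, H27DR.coe_lwedge, map_smul, smul_mul_assoc])

/-- The cup product with `(φ ω, -h ω)` as a bilinear map. -/
noncomputable def coneL : Ω[B⁄k] →ₗ[B] NJ p k B J →ₗ[B] NJ p k B J :=
  LinearMap.mk₂ B (fun ω y => cone (L.lwT ω) (L.hmT ω) y)
    (fun ω ω' y => by
      funext a γ
      show lpart _ y a γ - hpart _ y a γ = (lpart _ y a γ - hpart _ y a γ) + (lpart _ y a γ - hpart _ y a γ)
      have h1 : lpart (L.lwT (ω + ω')) y a γ = lpart (L.lwT ω) y a γ + lpart (L.lwT ω') y a γ := by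
        rcases a with - | a <;> rcases γ with - | ⟨i, γ⟩ <;>
          simp [lpart, lwT_apply, lwedge_add] <;> exact zsmul_add _ _ _
      have h2 : hpart (L.hmT (ω + ω')) y a γ = hpart (L.hmT ω) y a γ + hpart (L.hmT ω') y a γ := by
        rcases γ with - | ⟨i, - | ⟨j, γ⟩⟩ <;> simp [hpart, hmT_apply, add_smul]
      rw [h1, h2]
      abel)
    (fun c ω y => by
      funext a γ
      show lpart _ y a γ - hpart _ y a γ = c • (lpart _ y a γ - hpart _ y a γ)
      have h1 : lpart (L.lwT (c • ω)) y a γ = c • lpart (L.lwT ω) y a γ := by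
        rcases a with - | a <;> rcases γ with - | ⟨i, γ⟩ <;>
          simp [lpart, lwT_apply, toTw_symm_smul, lwedge_smul] <;>
          (rw [← toTw_smul]; exact ((DistribSMul.toAddMonoidHom (Tw p ↥(⋀[B]^(a + 1) (Ω[B⁄k]))) c).map_zsmul _ _).symm)
      have h2 : hpart (L.hmT (c • ω)) y a γ = c • hpart (L.hmT ω) y a γ := by
        rcases γ with - | ⟨i, - | ⟨j, γ⟩⟩ <;> simp [hpart, hmT_apply, toTw_symm_smul, mul_smul, toTw_smul]
      rw [h1, h2, smul_sub])
    (fun ω y y' => by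
      funext a γ
      show lpart _ (y + y') a γ - hpart _ (y + y') a γ =
        (lpart _ y a γ - hpart _ y a γ) + (lpart _ y' a γ - hpart _ y' a γ)
      have h1 : lpart (L.lwT ω) (y + y') a γ = lpart (L.lwT ω) y a γ + lpart (L.lwT ω) y' a γ := by
        rcases a with - | a <;> rcases γ with - | ⟨i, γ⟩ <;> simp [lpart] <;> exact zsmul_add _ _ _
      have h2 : hpart (L.hmT ω) (y + y') a γ = hpart (L.hmT ω) y a γ + hpart (L.hmT ω) y' a γ := by
        rcases γ with - | ⟨i, - | ⟨j, γ⟩⟩ <;> simp [hpart]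
      rw [h1, h2]
      abel)
    (fun c ω y => by
      funext a γ
      show lpart _ (c • y) a γ - hpart _ (c • y) a γ = c • (lpart _ y a γ - hpart _ y a γ)
      have h1 : lpart (L.lwT ω) (c • y) a γ = c • lpart (L.lwT ω) y a γ := by
        rcases a with - | a <;> rcases γ with - | ⟨i, γ⟩ <;>
          simp [lpart, lwT_apply, toTw_symm_smul, map_smul] <;>
          (rw [← toTw_smul]; exact ((DistribSMul.toAddMonoidHom (Tw p ↥(⋀[B]^(a + 1) (Ω[B⁄k]))) c).map_zsmul _ _).symm)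
      have h2 : hpart (L.hmT ω) (c • y) a γ = c • hpart (L.hmT ω) y a γ := by
        rcases γ with - | ⟨i, - | ⟨j, γ⟩⟩ <;>
          simp [hpart, hmT_apply, toTw_symm_smul, toTw_smul] <;> exact smul_comm _ _ _
      rw [h1, h2, smul_sub])

theorem coneL_apply (ω : Ω[B⁄k]) (y : NJ p k B J) : L.coneL ω y = cone (L.lwT ω) (L.hmT ω) y := rfl

variable (p k B J) in
/-- The unit cochain. -/
noncomputable def unitC : NJ p k B J
  | 0, [_] => toTw p ((exteriorPower.zeroEquiv B (Ω[B⁄k])).symm 1)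
  | _, _ => 0

/-- The iterated cup product. -/
noncomputable def Qm : ∀ a : ℕ, MultilinearMap B (fun _ : Fin a => Ω[B⁄k]) (NJ p k B J)
  | 0 => MultilinearMap.constOfIsEmpty B _ (unitC p k B J)
  | a + 1 => LinearMap.uncurryLeft
      { toFun := fun ω => (L.coneL ω).compMultilinearMap (Qm a)
        map_add' := fun ω ω' => MultilinearMap.ext fun v => by simp
        map_smul' := fun c ω => MultilinearMap.ext fun v => by simp }

theorem Qm_succ (a : ℕ) (v : Fin (a + 1) → Ω[B⁄k]) :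
    L.Qm (a + 1) v = cone (L.lwT (v 0)) (L.hmT (v 0)) (L.Qm a (Fin.tail v)) := rfl

theorem Qm_nil : ∀ (a : ℕ) (v : Fin a → Ω[B⁄k]) (a' : ℕ), L.Qm a v a' [] = 0
  | 0, v, a' => by rcases a' with - | a' <;> rfl
  | a + 1, v, a' => by rw [L.Qm_succ, cone_nil]

theorem Qm_supp : ∀ (a : ℕ) (v : Fin a → Ω[B⁄k]) (a' : ℕ) (γ : List J), a' + γ.length ≠ a + 1 →
    L.Qm a v a' γ = 0
  | 0, v, a', γ, h => by
    rcases a' with - | a' <;> rcases γ with - | ⟨i, - | ⟨j, γ⟩⟩ <;> first | rfl | simp at h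
  | a + 1, v, a', γ, h => by
    rw [L.Qm_succ, show cone (L.lwT (v 0)) (L.hmT (v 0)) (L.Qm a (Fin.tail v)) a' γ =
      lpart (L.lwT (v 0)) (L.Qm a (Fin.tail v)) a' γ - hpart (L.hmT (v 0)) (L.Qm a (Fin.tail v)) a' γ from rfl]
    have h1 : lpart (L.lwT (v 0)) (L.Qm a (Fin.tail v)) a' γ = 0 := by
      rcases a' with - | a' <;> rcases γ with - | ⟨i, γ⟩ <;> try rfl
      show sgn γ.length • _ = 0
      rw [Qm_supp a _ a' (i :: γ) (by simp at h ⊢; omega), map_zero, smul_zero]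
    have h2 : hpart (L.hmT (v 0)) (L.Qm a (Fin.tail v)) a' γ = 0 := by
      rcases γ with - | ⟨i, - | ⟨j, γ⟩⟩ <;> try rfl
      show L.hmT _ i j a' _ = 0
      rw [Qm_supp a _ a' (j :: γ) (by simp at h ⊢; omega), map_zero]
    rw [h1, h2, sub_zero]

theorem Qm_diag : ∀ (a : ℕ) (v : Fin a → Ω[B⁄k]) (i : J),
    (toTw p).symm (L.Qm a v a [i]) = ιMulti B a fun t => (toTw p).symm (L.φ i (v t))
  | 0, v, i => by
    show (exteriorPower.zeroEquiv B (Ω[B⁄k])).symm 1 = _
    rw [LinearEquiv.symm_apply_eq, zeroEquiv_ιMulti]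
  | a + 1, v, i => by
    rw [L.Qm_succ, cone_singleton, lwT_apply, AddEquiv.symm_apply_apply, Qm_diag a _ i, H27DR.lwedge_ιMulti]
    congr 1
    funext t
    refine Fin.cases ?_ ?_ t <;> simp [Fin.tail]

variable {d : ∀ q : ℕ, ↥(⋀[B]^q (Ω[B⁄k])) →ₗ[k] ↥(⋀[B]^(q + 1) (Ω[B⁄k]))}
  (hd : DeRham.IsDiff (KaehlerDifferential.D k B) d)

variable (p d) in
/-- The differential on the twisted forms. -/
noncomputable def dT (a : ℕ) : Tw p ↥(⋀[B]^a (Ω[B⁄k])) →+ Tw p ↥(⋀[B]^(a + 1) (Ω[B⁄k])) :=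
  (toTw p).toAddMonoidHom.comp ((d a).toAddMonoidHom.comp (toTw p).symm.toAddMonoidHom)

omit hp h0 in
theorem dT_apply (a : ℕ) (x : Tw p ↥(⋀[B]^a (Ω[B⁄k]))) : dT p d a x = toTw p (d a ((toTw p).symm x)) := rfl

include hd in
omit hp in
theorem dT_smul (a : ℕ) (c : B) (x : Tw p ↥(⋀[B]^a (Ω[B⁄k]))) [Fact p.Prime] :
    dT p d a (c • x) = c • dT p d a x := by
  rw [dT_apply, dT_apply, toTw_symm_smul, d_pow_smul hd, toTw_smul]

include hd in
theorem tot_Qm : ∀ (a : ℕ) (v : Fin a → Ω[B⁄k]) (γ : List J) (a' : ℕ), tot (dT p d) γ (L.Qm a v) a' = 0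
  | 0, v, γ, a' => by
    have h1 : d 0 ((exteriorPower.zeroEquiv B (Ω[B⁄k])).symm 1) = 0 := by
      have h := hd.1 0 1 ![]
      rw [DeRham.gen, one_smul, Derivation.map_one_eq_zero] at h
      rw [show (exteriorPower.zeroEquiv B (Ω[B⁄k])).symm 1 = ιMulti B 0 (fun t => KaehlerDifferential.D k B (![] t)) from ?_, h]
      · exact (ιMulti B 1).map_coord_zero 0 (by simp)
      · rw [LinearEquiv.symm_apply_eq, zeroEquiv_ιMulti]
    have hs : ∀ (b : ℕ) (α : List J), b + α.length ≠ 1 → L.Qm 0 v b α = 0 := fun b α h => L.Qm_supp 0 v b α h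
    rcases γ with - | ⟨i, - | ⟨j, - | ⟨m, γ⟩⟩⟩
    · rcases a' with - | a' <;> simp [tot_succ, L.Qm_nil]
    · rcases a' with - | - | a'
      · simp [dlist_cons, L.Qm_nil]
      · have : (toTw p).symm (L.Qm 0 v 0 [i]) = (exteriorPower.zeroEquiv B (Ω[B⁄k])).symm 1 := rfl
        simp [tot_succ, dlist_cons, L.Qm_nil, dT_apply, this, h1]
      · simp [tot_succ, dlist_cons, L.Qm_nil, hs (a' + 1) [i]]
    · rcases a' with - | a'
      · simp [dlist_cons]
        exact sub_self _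
      · simp [tot_succ, dlist_cons, hs (a' + 1) [i], hs (a' + 1) [j], hs a' [i, j]]
    · have h3 : ∀ b, dlist (i :: j :: m :: γ) (L.Qm 0 v b) = 0 := fun b =>
        (dlist_congr _ _ (fun _ => 0) fun α hα => hs b α (by simp at hα; omega)).trans (dlist_zero _)
      rcases a' with - | a'
      · exact h3 0
      · rw [tot_succ, h3, hs a' _ (by simp; omega), map_zero, smul_zero, sub_zero]
  | a + 1, v, γ, a' => by
    rw [L.Qm_succ]
    rw [tot_cone (dT p d) (L.lwT (v 0)) (L.hmT (v 0)) ?_ ?_ ?_ _ (L.Qm_nil a _) γ a',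
      show (fun b α => tot (dT p d) α (L.Qm a (Fin.tail v)) b) = fun _ _ => 0 from
        funext fun b => funext fun α => tot_Qm a _ α b]
    · rw [neg_eq_zero]
      exact congrFun (congrFun (map_zero (L.coneL (v 0))) a') γ
    · intro i j m b x
      rw [hmT_apply, hmT_apply, hmT_apply, L.coc_all i j m, add_smul, map_add]
    · intro i b x
      rw [dT_apply, lwT_apply, AddEquiv.symm_apply_apply, lwT_apply, dT_apply, AddEquiv.symm_apply_apply, ← map_neg]
      congr 1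
      generalize (toTw p).symm x = y
      refine Submodule.span_induction (p := fun ω _ => d (b + 1) (H27DR.lwedge b ((toTw p).symm (L.φ i ω)) y) =
        -H27DR.lwedge (b + 1) ((toTw p).symm (L.φ i ω)) (d b y)) ?_ ?_ ?_ ?_
        ((KaehlerDifferential.span_range_derivation k B).ge trivial : v 0 ∈ _)
      · rintro _ ⟨c, rfl⟩
        obtain ⟨w, hw⟩ := L.spec i c
        rw [hw, d_lwedge_cartier hd]
      · have hz : ∀ q (z : ↥(⋀[B]^q (Ω[B⁄k]))), H27DR.lwedge q (0 : Ω[B⁄k]) z = 0 := fun q z =>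
          Subtype.ext (by rw [H27DR.coe_lwedge]; simp)
        simp [hz]
      · intro x₁ x₂ _ _ e₁ e₂
        rw [map_add, map_add, lwedge_add, lwedge_add, map_add, e₁, e₂, neg_add]
      · intro c x₁ _ e₁
        rw [map_smul, toTw_symm_smul, lwedge_smul, lwedge_smul, d_pow_smul hd, e₁, smul_neg]
    · intro i j b x
      rw [dT_apply, hmT_apply, AddEquiv.symm_apply_apply, H27DR.d_smul _ d (H27DR.kaehler_span k B) hd.1, L.dh_all,
        map_add, hmT_apply, dT_apply, AddEquiv.symm_apply_apply, lwT_apply, lwT_apply, ← map_sub (toTw p) (H27DR.lwedge b _ _)]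
      refine (add_comm _ _).trans (congrArg₂ (· + ·) rfl (congrArg _ ?_))
      rw [eq_sub_iff_add_eq]
      exact (lwedge_add _ _ _ _).symm.trans
        (congrArg (fun θ => H27DR.lwedge b θ ((toTw p).symm x)) (sub_add_cancel _ _))

/-- The Deligne–Illusie cochain of a form. -/
noncomputable def Ψ (a : ℕ) : ↥(⋀[B]^a (Ω[B⁄k])) →ₗ[B] NJ p k B J :=
  exteriorPower.alternatingMapLinearEquiv (MultilinearMap.alternatization (L.Qm a))

theorem Ψ_ιMulti (a : ℕ) (v : Fin a → Ω[B⁄k]) :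
    L.Ψ a (ιMulti B a v) = ∑ σ : Equiv.Perm (Fin a), Equiv.Perm.sign σ • L.Qm a (v ∘ σ) := by
  rw [Ψ, exteriorPower.alternatingMapLinearEquiv_apply_ιMulti, MultilinearMap.alternatization_apply]
  rfl

theorem Ψ_induction {a : ℕ} {P : ↥(⋀[B]^a (Ω[B⁄k])) → Prop} (h0 : P 0)
    (hadd : ∀ x y, P x → P y → P (x + y)) (hgen : ∀ (c : B) v, P (c • ιMulti B a v)) (x : ↥(⋀[B]^a (Ω[B⁄k]))) :
    P x :=
  H27DR.gen_induction (KaehlerDifferential.D k B) (H27DR.kaehler_span k B) a (fun b₀ b => hgen b₀ _) h0 hadd x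

theorem Ψ_supp (a : ℕ) (x : ↥(⋀[B]^a (Ω[B⁄k]))) (a' : ℕ) (γ : List J) (h : a' + γ.length ≠ a + 1) :
    L.Ψ a x a' γ = 0 := by
  refine Ψ_induction (P := fun x => L.Ψ a x a' γ = 0) (by simp) (fun x y hx hy => by simp [hx, hy]) ?_ x
  intro c v
  rw [map_smul, Pi.smul_apply, Pi.smul_apply, Ψ_ιMulti, Finset.sum_apply, Finset.sum_apply,
    Finset.sum_eq_zero fun σ _ => ?_, smul_zero]
  rw [Pi.smul_apply, Pi.smul_apply, L.Qm_supp a _ a' γ h, smul_zero]

theorem Ψ_nil (a : ℕ) (x : ↥(⋀[B]^a (Ω[B⁄k]))) (a' : ℕ) : L.Ψ a x a' [] = 0 := by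
  refine Ψ_induction (P := fun x => L.Ψ a x a' [] = 0) (by simp) (fun x y hx hy => by simp [hx, hy]) ?_ x
  intro c v
  rw [map_smul, Pi.smul_apply, Pi.smul_apply, Ψ_ιMulti, Finset.sum_apply, Finset.sum_apply,
    Finset.sum_eq_zero fun σ _ => ?_, smul_zero]
  rw [Pi.smul_apply, Pi.smul_apply, L.Qm_nil, smul_zero]

/-- On a single index we find `a!` times the exterior power of `φ`. -/
theorem Ψ_diag (a : ℕ) (x : ↥(⋀[B]^a (Ω[B⁄k]))) (i : J) :
    L.Ψ a x a [i] = a.factorial • extPow p (L.φ i) a x := by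
  refine Ψ_induction (P := fun x => L.Ψ a x a [i] = a.factorial • extPow p (L.φ i) a x) (by simp)
    (fun x y hx hy => by simp [hx, hy]; exact (nsmul_add _ _ _).symm) ?_ x
  intro c v
  rw [map_smul, Pi.smul_apply, Pi.smul_apply, map_smul, smul_comm]
  congr 1
  rw [Ψ_ιMulti, Finset.sum_apply, Finset.sum_apply]
  apply (toTw p).symm.injective
  rw [map_sum, map_nsmul, extPow_ιMulti, Finset.sum_congr rfl (g := fun _ => ιMulti B a fun t => (toTw p).symm (L.φ i (v t)))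
    fun σ _ => ?_, Finset.sum_const, Finset.card_univ, Fintype.card_perm, Fintype.card_fin]
  rw [Pi.smul_apply, Pi.smul_apply, Units.smul_def, map_zsmul, L.Qm_diag, ← Units.smul_def]
  rw [show (fun t => (toTw p).symm (L.φ i ((v ∘ σ) t))) = (fun t => (toTw p).symm (L.φ i (v t))) ∘ σ from rfl,
    AlternatingMap.map_perm, smul_smul, Int.units_mul_self, one_smul]

include hd in
theorem tot_Ψ (a : ℕ) (x : ↥(⋀[B]^a (Ω[B⁄k]))) (γ : List J) (a' : ℕ) : tot (dT p d) γ (L.Ψ a x) a' = 0 := by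
  let T : NJ p k B J →+ Tw p ↥(⋀[B]^a' (Ω[B⁄k])) :=
    AddMonoidHom.mk' (fun y => tot (dT p d) γ y a') fun y z => tot_add _ γ y z a'
  have hsm : ∀ (c : B) y, T (c • y) = c • T y := fun c y => by
    have h := tot_map (dT p d) (dT p d) id (fun b => DistribSMul.toAddMonoidHom _ c) (fun b z => (dT_smul hd b c z).symm)
      γ y a'
    rw [List.map_id] at h
    simp only [List.map_id] at h
    exact h.symm
  refine Ψ_induction (P := fun x => T (L.Ψ a x) = 0) (by simp) (fun x y hx hy => by simp [hx, hy]) ?_ x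
  intro c v
  rw [map_smul, hsm, Ψ_ιMulti, map_sum, Finset.sum_eq_zero fun σ _ => ?_, smul_zero]
  rw [Units.smul_def, map_zsmul]
  exact (congrArg _ (L.tot_Qm hd a (v ∘ σ) γ a')).trans (smul_zero _)

end LData

end Groth.Agent.H27DI
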