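import Groth.Agent.H27DI.Psi
import Groth.Agent.H27DR.Basic

/-!
# Naturality of the Deligne–Illusie cochains
-/

set_option autoImplicit false
universe u

open exteriorPower

namespace Groth.Agent.H27DI

variable {p : ℕ} [hp : Fact p.Prime] {k : Type u} [CommRing k] {B B' : Type u} [CommRing B] [CommRing B']
  [Algebra k B] [Algebra k B'] [Algebra B B'] [IsScalarTower k B B']

/-- The functorial map of forms. -/
noncomputable def resF (k B B' : Type u) [CommRing k] [CommRing B] [CommRing B'] [Algebra k B] [Algebra k B']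
    [Algebra B B'] [IsScalarTower k B B'] (a : ℕ) :
    ↥(⋀[B]^a (Ω[B⁄k])) →ₗ[B] ↥(⋀[B']^a (Ω[B'⁄k])) :=
  exteriorPower.alternatingMapLinearEquiv (H27DR.kaehlerAlt (R := k) (S := k) (A := B) (B := B') a)

omit hp in
theorem resF_ιMulti (a : ℕ) (v : Fin a → Ω[B⁄k]) : resF k B B' a (ιMulti B a v) =
    ιMulti B' a fun i => KaehlerDifferential.map k k B B' (v i) := by
  rw [resF, exteriorPower.alternatingMapLinearEquiv_apply_ιMulti]
  rfl

omit hp in
theorem resF_smul (a : ℕ) (c : B) (x : ↥(⋀[B]^a (Ω[B⁄k]))) :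
    resF k B B' a (c • x) = algebraMap B B' c • resF k B B' a x := by
  rw [map_smul, algebraMap_smul]

omit hp in
theorem isCxMap_resF : DeRham.IsCxMap (KaehlerDifferential.D k B) (KaehlerDifferential.D k B') (algebraMap B B')
    fun a => (resF k B B' a).toAddMonoidHom := fun a b₀ b => by
  show resF k B B' a (DeRham.gen _ a b₀ b) = _
  rw [DeRham.gen, resF_smul, resF_ιMulti]
  simp [DeRham.gen, KaehlerDifferential.map_D]

omit hp in
theorem resF_d {d : ∀ q : ℕ, ↥(⋀[B]^q (Ω[B⁄k])) →ₗ[k] ↥(⋀[B]^(q + 1) (Ω[B⁄k]))}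
    (hd : DeRham.IsDiff (KaehlerDifferential.D k B) d)
    {d' : ∀ q : ℕ, ↥(⋀[B']^q (Ω[B'⁄k])) →ₗ[k] ↥(⋀[B']^(q + 1) (Ω[B'⁄k]))}
    (hd' : DeRham.IsDiff (KaehlerDifferential.D k B') d') (a : ℕ) (x : ↥(⋀[B]^a (Ω[B⁄k]))) :
    resF k B B' (a + 1) (d a x) = d' a (resF k B B' a x) :=
  H27DR.cxMap_comm _ (H27DR.kaehler_span k B) _ _ d hd.1 d' hd'.1 _ isCxMap_resF a x

omit hp in
theorem resF_lwedge (a : ℕ) (θ : Ω[B⁄k]) (x : ↥(⋀[B]^a (Ω[B⁄k]))) :
    resF k B B' (a + 1) (H27DR.lwedge a θ x) =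
      H27DR.lwedge a (KaehlerDifferential.map k k B B' θ) (resF k B B' a x) := by
  refine H27DR.gen_induction (KaehlerDifferential.D k B) (H27DR.kaehler_span k B) a
    (P := fun x => resF k B B' (a + 1) (H27DR.lwedge a θ x) =
      H27DR.lwedge a (KaehlerDifferential.map k k B B' θ) (resF k B B' a x)) ?_ (by simp)
    (fun x y hx hy => by simp only [map_add, hx, hy]) x
  intro b₀ b
  rw [DeRham.gen, map_smul, resF_smul, resF_smul, map_smul, H27DR.lwedge_ιMulti, resF_ιMulti, resF_ιMulti,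
    H27DR.lwedge_ιMulti]
  congr 2
  funext i
  refine Fin.cases ?_ ?_ i <;> simp

variable [Fact ((p : B) = 0)] [Fact ((p : B') = 0)]

variable (p k B B') in
/-- The functorial map of twisted forms. -/
noncomputable def resT (a : ℕ) : Tw p ↥(⋀[B]^a (Ω[B⁄k])) →+ Tw p ↥(⋀[B']^a (Ω[B'⁄k])) :=
  (toTw p).toAddMonoidHom.comp ((resF k B B' a).toAddMonoidHom.comp (toTw p).symm.toAddMonoidHom)

theorem resT_apply (a : ℕ) (x : Tw p ↥(⋀[B]^a (Ω[B⁄k]))) :
    resT p k B B' a x = toTw p (resF k B B' a ((toTw p).symm x)) := rfl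

theorem resT_smul (a : ℕ) (c : B) (x : Tw p ↥(⋀[B]^a (Ω[B⁄k]))) :
    resT p k B B' a (c • x) = algebraMap B B' c • resT p k B B' a x := by
  rw [resT_apply, resT_apply, toTw_symm_smul, resF_smul, map_pow, toTw_smul]

variable {J J' : Type u} (f : J' → J) (L : LData p k B J) (L' : LData p k B' J')
  (hφ : ∀ (i : J') (b : B), KaehlerDifferential.map k k B B' ((toTw p).symm (L.φ (f i) (KaehlerDifferential.D k B b))) =
    (toTw p).symm (L'.φ i (KaehlerDifferential.D k B' (algebraMap B B' b))))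
  (hh : ∀ (i j : J') (b : B), algebraMap B B' ((toTw p).symm (L.h (f i) (f j) (KaehlerDifferential.D k B b))) =
    (toTw p).symm (L'.h i j (KaehlerDifferential.D k B' (algebraMap B B' b))))

include hφ in
theorem map_φ (i : J') (ω : Ω[B⁄k]) : KaehlerDifferential.map k k B B' ((toTw p).symm (L.φ (f i) ω)) =
    (toTw p).symm (L'.φ i (KaehlerDifferential.map k k B B' ω)) := by
  refine Submodule.span_induction (p := fun ω _ => KaehlerDifferential.map k k B B' ((toTw p).symm (L.φ (f i) ω)) =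
    (toTw p).symm (L'.φ i (KaehlerDifferential.map k k B B' ω))) ?_ (by simp) ?_ ?_
    ((KaehlerDifferential.span_range_derivation k B).ge trivial : ω ∈ _)
  · rintro _ ⟨b, rfl⟩
    rw [KaehlerDifferential.map_D]
    exact hφ i b
  · intro x y _ _ hx hy
    simp only [map_add, hx, hy]
  · intro c x _ hx
    rw [map_smul, toTw_symm_smul, map_smul, map_smul, hx, ← algebraMap_smul B' c, map_smul, toTw_symm_smul,
      ← algebraMap_smul B' (c ^ p), map_pow]

include hh in
theorem map_h (i j : J') (ω : Ω[B⁄k]) : algebraMap B B' ((toTw p).symm (L.h (f i) (f j) ω)) =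
    (toTw p).symm (L'.h i j (KaehlerDifferential.map k k B B' ω)) := by
  refine Submodule.span_induction (p := fun ω _ => algebraMap B B' ((toTw p).symm (L.h (f i) (f j) ω)) =
    (toTw p).symm (L'.h i j (KaehlerDifferential.map k k B B' ω))) ?_ (by simp) ?_ ?_
    ((KaehlerDifferential.span_range_derivation k B).ge trivial : ω ∈ _)
  · rintro _ ⟨b, rfl⟩
    rw [KaehlerDifferential.map_D]
    exact hh i j b
  · intro x y _ _ hx hy
    simp only [map_add, hx, hy]
  · intro c x _ hx
    simp only [map_smul, toTw_symm_smul, smul_eq_mul, map_mul, map_pow, hx]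
    rw [← algebraMap_smul B' c, map_smul, toTw_symm_smul, smul_eq_mul]

include hφ hh in
theorem resT_Qm : ∀ (a : ℕ) (v : Fin a → Ω[B⁄k]) (a' : ℕ) (γ : List J'),
    resT p k B B' a' (L.Qm a v a' (γ.map f)) =
      L'.Qm a (fun t => KaehlerDifferential.map k k B B' (v t)) a' γ
  | 0, v, a', γ => by
    rcases a' with - | a' <;> rcases γ with - | ⟨i, - | ⟨j, γ⟩⟩ <;> try exact map_zero _
    show toTw p (resF k B B' 0 _) = toTw p _
    congr 1
    show resF k B B' 0 ((exteriorPower.zeroEquiv B (Ω[B⁄k])).symm 1) = (exteriorPower.zeroEquiv B' (Ω[B'⁄k])).symm 1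
    rw [show (exteriorPower.zeroEquiv B (Ω[B⁄k])).symm 1 = ιMulti B 0 ![] by
      rw [LinearEquiv.symm_apply_eq, zeroEquiv_ιMulti], resF_ιMulti, LinearEquiv.eq_symm_apply, zeroEquiv_ιMulti]
  | a + 1, v, a', γ => by
    rw [L.Qm_succ, L'.Qm_succ]
    show resT p k B B' a' (lpart (L.lwT (v 0)) (L.Qm a (Fin.tail v)) a' (γ.map f) -
        hpart (L.hmT (v 0)) (L.Qm a (Fin.tail v)) a' (γ.map f)) =
      lpart (L'.lwT (KaehlerDifferential.map k k B B' (v 0)))
          (L'.Qm a (Fin.tail fun t => KaehlerDifferential.map k k B B' (v t))) a' γ -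
        hpart (L'.hmT (KaehlerDifferential.map k k B B' (v 0)))
          (L'.Qm a (Fin.tail fun t => KaehlerDifferential.map k k B B' (v t))) a' γ
    rw [map_sub]
    congr 1
    · rcases a' with - | a' <;> rcases γ with - | ⟨i, γ⟩ <;> try exact map_zero _
      simp only [List.map_cons, lpart, List.length_map, map_zsmul]
      congr 1
      have h := resT_Qm a (Fin.tail v) a' (i :: γ)
      rw [List.map_cons] at h
      rw [resT_apply] at h
      rw [LData.lwT_apply, LData.lwT_apply, resT_apply, AddEquiv.symm_apply_apply, resF_lwedge, map_φ f L L' hφ,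
        show Fin.tail (fun t => KaehlerDifferential.map k k B B' (v t)) =
          fun t => KaehlerDifferential.map k k B B' (Fin.tail v t) from rfl, ← h, AddEquiv.symm_apply_apply]
    · rcases γ with - | ⟨i, - | ⟨j, γ⟩⟩ <;> try exact map_zero _
      simp only [List.map_cons, hpart]
      have h := resT_Qm a (Fin.tail v) a' (j :: γ)
      rw [List.map_cons, resT_apply] at h
      rw [LData.hmT_apply, LData.hmT_apply, resT_apply, AddEquiv.symm_apply_apply, resF_smul, map_h f L L' hh,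
        show Fin.tail (fun t => KaehlerDifferential.map k k B B' (v t)) =
          fun t => KaehlerDifferential.map k k B B' (Fin.tail v t) from rfl, ← h, AddEquiv.symm_apply_apply]

include hφ hh in
/-- Naturality of the cochains. -/
theorem resT_Ψ (a : ℕ) (x : ↥(⋀[B]^a (Ω[B⁄k]))) (a' : ℕ) (γ : List J') :
    resT p k B B' a' (L.Ψ a x a' (γ.map f)) = L'.Ψ a (resF k B B' a x) a' γ := by
  refine LData.Ψ_induction (P := fun x => resT p k B B' a' (L.Ψ a x a' (γ.map f)) = L'.Ψ a (resF k B B' a x) a' γ)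
    (by simp) (fun x y hx hy => by simp only [map_add, Pi.add_apply, hx, hy]) ?_ x
  intro c v
  rw [map_smul, resF_smul, map_smul, Pi.smul_apply, Pi.smul_apply, Pi.smul_apply, Pi.smul_apply, resT_smul,
    resF_ιMulti, LData.Ψ_ιMulti, LData.Ψ_ιMulti]
  congr 1
  simp only [Finset.sum_apply, Pi.smul_apply, map_sum, Units.smul_def, map_zsmul, resT_Qm f L L' hφ hh, Function.comp_def]

end Groth.Agent.H27DI
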