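import Groth.Agent.H27DI.Flat

/-!
# Čech systems indexed by finite sets and injectivity of the Deligne–Illusie map
-/

set_option autoImplicit false
universe u v w

open Finset

namespace Groth.Agent.H27DI

/-- Values on finite sets of indices with a differential and restrictions. -/
structure Sys (ι : Type w) where
  N : Finset ι → ℕ → Type u
  [grp : ∀ s a, AddCommGroup (N s a)]
  d : ∀ s a, N s a →+ N s (a + 1)
  res : ∀ {s t : Finset ι}, s ⊆ t → ∀ a, N s a →+ N t a
  res_self : ∀ s a x, res (Finset.Subset.refl s) a x = x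
  res_res : ∀ {s t r : Finset ι} (h : s ⊆ t) (h' : t ⊆ r) a x, res h' a (res h a x) = res (h.trans h') a x
  res_d : ∀ {s t : Finset ι} (h : s ⊆ t) a x, res h (a + 1) (d s a x) = d t a (res h a x)
  d_d : ∀ s a x, d s (a + 1) (d s a x) = 0

attribute [instance] Sys.grp

variable {ι : Type w} [DecidableEq ι]

theorem toFinset_map_val (s : Finset ι) (α : List {i // i ∈ s}) : (α.map Subtype.val).toFinset ⊆ s := fun i hi => by
  obtain ⟨j, -, rfl⟩ := List.mem_map.1 (List.mem_toFinset.1 hi)
  exact j.2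

/-- A list as a list in its own support. -/
def liftL (γ : List ι) : List {i // i ∈ γ.toFinset} :=
  γ.attach.map fun i => ⟨i.1, List.mem_toFinset.2 i.2⟩

theorem map_val_liftL (γ : List ι) : (liftL γ).map Subtype.val = γ := by
  rw [liftL, List.map_map]
  exact List.attach_map_subtype_val γ

theorem length_liftL (γ : List ι) : (liftL γ).length = γ.length := by simp [liftL]

namespace Sys

variable (Y : Sys.{u} ι)

/-- Cochains of all degrees. -/
abbrev Coch : Type (max u w) := ∀ (a : ℕ) (γ : List ι), Y.N γ.toFinset a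

/-- Cochains of total degree `n - 1`. -/
def IsDeg (n : ℕ) (y : Y.Coch) : Prop := (∀ a γ, a + γ.length ≠ n → y a γ = 0) ∧ ∀ a, y a [] = 0

variable {Y}

/-- A cochain seen on one finite set. -/
def loc (y : Y.Coch) (s : Finset ι) (a : ℕ) (α : List {i // i ∈ s}) : Y.N s a :=
  Y.res (toFinset_map_val s α) a (y a (α.map Subtype.val))

theorem res_congr {t : Finset ι} (y : Y.Coch) (a : ℕ) {γ γ' : List ι} (e : γ = γ') (h : γ.toFinset ⊆ t)
    (h' : γ'.toFinset ⊆ t) : Y.res h a (y a γ) = Y.res h' a (y a γ') := by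
  subst e; rfl

theorem loc_liftL (y : Y.Coch) (a : ℕ) (γ : List ι) : loc y γ.toFinset a (liftL γ) = y a γ :=
  (res_congr y a (map_val_liftL γ) _ (Finset.Subset.refl _)).trans (Y.res_self _ _ _)

theorem loc_nil {n : ℕ} {y : Y.Coch} (hy : Y.IsDeg n y) (s : Finset ι) (a : ℕ) : loc y s a [] = 0 := by
  rw [loc]
  exact (congrArg _ (hy.2 a)).trans (map_zero _)

theorem loc_eq_zero {y : Y.Coch} {s : Finset ι} {a : ℕ} {α : List {i // i ∈ s}} (h : y a (α.map Subtype.val) = 0) :
    loc y s a α = 0 := by rw [loc, h, map_zero]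

theorem res_loc (y : Y.Coch) {s t : Finset ι} (h : s ⊆ t) (a : ℕ) (α : List {i // i ∈ s}) :
    Y.res h a (loc y s a α) = loc y t a (α.map fun i => ⟨i.1, h i.2⟩) := by
  rw [loc, loc, Y.res_res]
  exact res_congr y a (by rw [List.map_map]; rfl) _ _

theorem loc_add (y z : Y.Coch) (s : Finset ι) (a : ℕ) (α : List {i // i ∈ s}) :
    loc (y + z) s a α = loc y s a α + loc z s a α := map_add _ _ _

/-- The total differential. -/
def D (y : Y.Coch) : Y.Coch := fun a γ => tot (Y.d γ.toFinset) (liftL γ) (loc y γ.toFinset) a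

/-- The Čech differential. -/
def δ (y : Y.Coch) : Y.Coch := fun a γ => dlist (liftL γ) (loc y γ.toFinset a)

theorem D_add (y z : Y.Coch) : D (y + z) = D y + D z := by
  funext a γ
  show tot _ _ (loc (y + z) _) a = _
  rw [show loc (y + z) γ.toFinset = loc y γ.toFinset + loc z γ.toFinset from
    funext fun b => funext fun α => loc_add y z _ b α]
  exact tot_add _ _ _ _ a

theorem δ_add (y z : Y.Coch) : δ (y + z) = δ y + δ z := by
  funext a γ
  show dlist _ (loc (y + z) _ a) = _
  rw [show loc (y + z) γ.toFinset a = loc y γ.toFinset a + loc z γ.toFinset a from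
    funext fun α => loc_add y z _ a α]
  exact dlist_add _ _ _

theorem loc_D (y : Y.Coch) (t : Finset ι) (a : ℕ) (α : List {i // i ∈ t}) :
    loc (D y) t a α = tot (Y.d t) α (loc y t) a := by
  have h := toFinset_map_val t α
  rw [loc]
  show Y.res h a (tot _ _ _ a) = _
  have e := tot_map (Y.d (α.map Subtype.val).toFinset) (Y.d t) id (fun b => Y.res h b) (fun b x => Y.res_d h b x)
    (liftL (α.map Subtype.val)) (loc y (α.map Subtype.val).toFinset) a
  rw [List.map_id] at e
  rw [e]
  have e' := tot_map (Y.d t) (Y.d t) (fun i : {i // i ∈ (α.map Subtype.val).toFinset} => (⟨i.1, h i.2⟩ : {i // i ∈ t}))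
    (fun b => AddMonoidHom.id _) (fun _ _ => rfl) (liftL (α.map Subtype.val)) (loc y t) a
  rw [show (liftL (α.map Subtype.val)).map (fun i => (⟨i.1, h i.2⟩ : {i // i ∈ t})) = α from
    List.map_injective_iff.2 Subtype.val_injective (by rw [List.map_map]; exact map_val_liftL _)] at e'
  refine Eq.trans ?_ e'.symm
  congr 1
  funext b β
  rw [List.map_id]
  exact res_loc y h b β

theorem loc_δ (y : Y.Coch) (t : Finset ι) (a : ℕ) (α : List {i // i ∈ t}) :
    loc (δ y) t a α = dlist α (loc y t a) := by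
  have h := toFinset_map_val t α
  rw [loc]
  show Y.res h a (dlist _ _) = _
  rw [← dlist_map]
  have e := dlist_relabel (fun i : {i // i ∈ (α.map Subtype.val).toFinset} => (⟨i.1, h i.2⟩ : {i // i ∈ t}))
    (liftL (α.map Subtype.val)) (loc y t a)
  rw [show (liftL (α.map Subtype.val)).map (fun i => (⟨i.1, h i.2⟩ : {i // i ∈ t})) = α from
    List.map_injective_iff.2 Subtype.val_injective (by rw [List.map_map]; exact map_val_liftL _)] at e
  rw [e]
  congr 1
  funext β
  exact res_loc y h a β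

theorem δ_δ (y : Y.Coch) : δ (δ y) = 0 := by
  funext a γ
  show dlist (liftL γ) (loc (δ y) γ.toFinset a) = 0
  rw [show loc (δ y) γ.toFinset a = fun α => dlist α (loc y γ.toFinset a) from funext fun α => loc_δ y _ a α]
  exact dlist_dlist _ _

theorem D_D {y : Y.Coch} : D (D y) = 0 := by
  funext a γ
  show tot _ (liftL γ) (loc (D y) γ.toFinset) a = 0
  rw [show loc (D y) γ.toFinset = fun b α => tot (Y.d γ.toFinset) α (loc y γ.toFinset) b from
    funext fun b => funext fun α => loc_D y _ b α]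
  rcases eq_or_ne (liftL γ) [] with h | h
  · rw [h]
    rcases a with - | - | a <;> simp [tot_succ, Y.d_d]
  · exact tot_tot _ (Y.d_d _) _ h _ a

theorem isDeg_add {n : ℕ} {y z : Y.Coch} (hy : Y.IsDeg n y) (hz : Y.IsDeg n z) : Y.IsDeg n (y + z) :=
  ⟨fun a γ h => by show y a γ + z a γ = 0; rw [hy.1 a γ h, hz.1 a γ h, add_zero],
    fun a => by show y a [] + z a [] = 0; rw [hy.2 a, hz.2 a]; exact add_zero _⟩

theorem isDeg_neg {n : ℕ} {y : Y.Coch} (hy : Y.IsDeg n y) : Y.IsDeg n (-y) :=
  ⟨fun a γ h => by show -y a γ = 0; rw [hy.1 a γ h, neg_zero], fun a => by show -y a [] = 0; rw [hy.2 a]; exact neg_zero⟩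

theorem dlist_loc_eq_zero {n : ℕ} {y : Y.Coch} (hy : Y.IsDeg n y) (s : Finset ι) (a : ℕ) (β : List {i // i ∈ s})
    (h : a + β.length ≠ n + 1) : dlist β (loc y s a) = 0 :=
  (dlist_congr _ _ (fun _ => 0) fun α hα =>
    loc_eq_zero (hy.1 a _ (by rw [List.length_map]; omega))).trans (dlist_zero _)

theorem isDeg_D {n : ℕ} {y : Y.Coch} (hy : Y.IsDeg n y) : Y.IsDeg (n + 1) (D y) := by
  refine ⟨fun a γ h => ?_, fun a => ?_⟩
  · show tot _ _ _ a = 0
    cases a with
    | zero => exact dlist_loc_eq_zero hy _ _ _ (by rw [length_liftL]; exact h)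
    | succ a =>
      rw [tot_succ, dlist_loc_eq_zero hy _ _ _ (by rw [length_liftL]; exact h), loc_liftL, hy.1 a γ (by omega),
        map_zero, smul_zero, sub_zero]
  · show tot _ (liftL []) _ a = 0
    rw [show liftL ([] : List ι) = [] from rfl]
    cases a with
    | zero => rfl
    | succ a => rw [tot_succ, loc_nil hy, map_zero, smul_zero, dlist_nil, sub_zero]

theorem isDeg_δ {n : ℕ} {y : Y.Coch} (hy : Y.IsDeg n y) : Y.IsDeg (n + 1) (δ y) :=
  ⟨fun a γ h => dlist_loc_eq_zero hy _ _ _ (by rw [length_liftL]; exact h), fun _ => rfl⟩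

end Sys

/-- A natural family of cocycles from one system to another. -/
structure Op (Y' Y : Sys.{u} ι) where
  Q : ∀ (s : Finset ι) (a a' : ℕ), Y'.N s a →+ (List {i // i ∈ s} → Y.N s a')
  cocycle : ∀ (s : Finset ι) (a : ℕ) (x : Y'.N s a) (γ : List {i // i ∈ s}) (a' : ℕ),
    tot (Y.d s) γ (fun b => Q s a b x) a' = 0
  supp : ∀ (s : Finset ι) (a a' : ℕ) (x : Y'.N s a) (γ : List {i // i ∈ s}),
    a' + γ.length ≠ a + 1 → Q s a a' x γ = 0
  nil : ∀ (s : Finset ι) (a a' : ℕ) (x : Y'.N s a), Q s a a' x [] = 0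
  natural : ∀ {s t : Finset ι} (h : s ⊆ t) (a a' : ℕ) (x : Y'.N s a) (γ : List {i // i ∈ s}),
    Y.res h a' (Q s a a' x γ) = Q t a a' (Y'.res h a x) (γ.map fun i => ⟨i.1, h i.2⟩)

namespace Op

variable {Y' Y : Sys.{u} ι} (O : Op Y' Y)

/-- The induced map of cochains in degree `n - 1`. -/
def ψ (n : ℕ) (x : Y'.Coch) : Y.Coch := fun a' γ =>
  ∑ a ∈ Finset.range n, cup (O.Q γ.toFinset a a') (n - 1 - a) (Sys.loc x γ.toFinset a) (liftL γ)

theorem ψ_add (n : ℕ) (x y : Y'.Coch) : O.ψ n (x + y) = O.ψ n x + O.ψ n y := by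
  funext a' γ
  show ∑ a ∈ _, _ = _
  rw [Pi.add_apply, Pi.add_apply, ψ, ψ, ← Finset.sum_add_distrib]
  refine Finset.sum_congr rfl fun a _ => ?_
  rw [← cup_add]
  exact cup_congr _ _ _ _ _ fun α _ => Sys.loc_add x y _ a α

omit [DecidableEq ι] in
theorem cup_natural {s t : Finset ι} (h : s ⊆ t) (a a' b : ℕ) : ∀ (f : List {i // i ∈ s} → Y'.N s a)
    (g : List {i // i ∈ t} → Y'.N t a), (∀ α, g (α.map fun i => ⟨i.1, h i.2⟩) = Y'.res h a (f α)) →
    ∀ (γ : List {i // i ∈ s}), Y.res h a' (cup (O.Q s a a') b f γ) =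
      cup (O.Q t a a') b g (γ.map fun i => ⟨i.1, h i.2⟩) := by
  induction b with
  | zero =>
    intro f g hfg γ
    rcases γ with - | ⟨i, γ⟩
    · simp
    · rw [cup_zero, List.map_cons, cup_zero, O.natural, ← hfg]
      rfl
  | succ b ih =>
    intro f g hfg γ
    rcases γ with - | ⟨i, γ⟩
    · simp
    · rw [cup_succ, List.map_cons, cup_succ]
      exact ih _ _ (fun α => hfg (i :: α)) γ

theorem loc_ψ (n : ℕ) (x : Y'.Coch) (t : Finset ι) (a' : ℕ) (α : List {i // i ∈ t}) :
    Sys.loc (O.ψ n x) t a' α = ∑ a ∈ Finset.range n, cup (O.Q t a a') (n - 1 - a) (Sys.loc x t a) α := by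
  have h := toFinset_map_val t α
  rw [Sys.loc]
  show Y.res h a' (∑ a ∈ _, _) = _
  rw [map_sum]
  refine Finset.sum_congr rfl fun a _ => ?_
  rw [O.cup_natural h a a' _ _ (Sys.loc x t a) (fun β => (Sys.res_loc x h a β).symm)]
  congr 1
  exact List.map_injective_iff.2 Subtype.val_injective (by rw [List.map_map]; exact map_val_liftL _)

theorem tot_cup {J : Type w} {A : ℕ → Type u} [∀ a, AddCommGroup (A a)] (d : ∀ a, A a →+ A (a + 1)) {A' : Type u}
    [AddCommGroup A'] (Q : ∀ a, A' →+ List J → A a) (hnil : ∀ a x, Q a x [] = 0)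
    (hQ : ∀ x γ a, tot d γ (fun b => Q b x) a = 0) (b : ℕ) (f : List J → A') (hf : ∀ α : List J, α.length ≤ b → f α = 0)
    (γ : List J) (a : ℕ) :
    tot d γ (fun a => cup (Q a) b f) a = cup (Q a) (b + 1) (fun α => dlist α f) γ := by
  have hsign : ∀ (a : ℕ) (b : ℕ) (f : List J → A') (γ : List J), sgn γ.length • d a (cup (Q a) b f γ) =
      sgn b • cup (AddMonoidHom.mk' (fun x α => sgn α.length • d a (Q a x α))
        (fun x y => funext fun α => by simp [zsmul_add])) b f γ := by
    intro a b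
    induction b with
    | zero => intro f γ; rcases γ with - | ⟨i, γ⟩ <;> simp [cup_zero, sgn]
    | succ b ih =>
      intro f γ
      rcases γ with - | ⟨i, γ⟩
      · simp
      · rw [cup_succ, cup_succ, List.length_cons, sgn_succ, sgn_succ, neg_smul, neg_smul, ih]
  have hcup0 : ∀ (a : ℕ) (R : A' →+ List J → A a), (∀ x α, R x α = 0) → ∀ (b : ℕ) (f : List J → A') (γ : List J),
      cup R b f γ = 0 := by
    intro a R hR b
    induction b with
    | zero => intro f γ; rcases γ with - | ⟨i, γ⟩ <;> simp [cup_zero, hR]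
    | succ b ih =>
      intro f γ
      rcases γ with - | ⟨i, γ⟩
      · simp
      · exact ih _ γ
  cases a with
  | zero =>
    rw [tot_zero, dlist_cup _ (hnil 0) b f γ hf, hcup0 0 (AddMonoidHom.mk' (fun x α => dlist α (Q 0 x)) fun x y => by funext α; rw [map_add]; exact dlist_add α _ _)
      (fun x α => hQ x α 0), smul_zero, add_zero]
  | succ a =>
    rw [tot_succ, dlist_cup _ (hnil _) b f γ hf, hsign, add_sub_assoc, ← smul_sub, add_eq_left]
    convert smul_zero (sgn b)
    rw [sub_eq_zero]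
    congr 1
    refine AddMonoidHom.ext fun x => funext fun α => ?_
    have h := hQ x α (a + 1)
    rw [tot_succ, sub_eq_zero] at h
    exact h

theorem D_ψ (n : ℕ) {x : Y'.Coch} (hx : Y'.IsDeg n x) : Sys.D (O.ψ n x) = O.ψ (n + 1) (Sys.δ x) := by
  funext a' γ
  show tot _ (liftL γ) (Sys.loc (O.ψ n x) γ.toFinset) a' = _
  rw [show Sys.loc (O.ψ n x) γ.toFinset = fun b α => ∑ a ∈ Finset.range n,
      cup (O.Q γ.toFinset a b) (n - 1 - a) (Sys.loc x γ.toFinset a) α from
    funext fun b => funext fun α => O.loc_ψ n x _ b α]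
  have hadd : ∀ (S : Finset ℕ), tot (Y.d γ.toFinset) (liftL γ) (fun b α => ∑ a ∈ S,
      cup (O.Q γ.toFinset a b) (n - 1 - a) (Sys.loc x γ.toFinset a) α) a' =
      ∑ a ∈ S, tot (Y.d γ.toFinset) (liftL γ) (fun b => cup (O.Q γ.toFinset a b) (n - 1 - a) (Sys.loc x γ.toFinset a)) a' := by
    intro S
    induction S using Finset.induction with
    | empty => cases a' <;> simp [tot_succ, dlist_zero]
    | @insert c S hc ih =>
      rw [Finset.sum_insert hc, ← ih, ← tot_add]
      congr 1
      funext b α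
      exact Finset.sum_insert hc
  rw [hadd]
  show _ = ∑ a ∈ Finset.range (n + 1), _
  rw [Finset.sum_range_succ]
  have hlast : cup (O.Q γ.toFinset n a') (n + 1 - 1 - n) (Sys.loc (Sys.δ x) γ.toFinset n) (liftL γ) = 0 := by
    refine (cup_congr _ _ _ (fun _ => 0) _ fun α hα => ?_).trans (cup_zero' _ _ _)
    rw [Sys.loc_δ]
    refine (dlist_congr _ _ (fun _ => 0) fun β hβ => Sys.loc_eq_zero ?_).trans (dlist_zero _)
    rw [List.length_eq_zero_iff.1 (show β.length = 0 by omega)]
    exact hx.2 n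
  rw [hlast, add_zero]
  refine Finset.sum_congr rfl fun a ha => ?_
  rw [Finset.mem_range] at ha
  rw [tot_cup _ (O.Q γ.toFinset a) (fun b x => O.nil _ _ _ x) (fun x δ b => O.cocycle _ _ x δ b) _ _
    (fun α hα => Sys.loc_eq_zero (hx.1 a _ (by rw [List.length_map]; omega))) _ a',
    show n + 1 - 1 - a = n - 1 - a + 1 by omega]
  exact cup_congr _ _ _ _ _ fun α _ => (Sys.loc_δ x _ a α).symm

theorem isDeg_ψ (n : ℕ) (x : Y'.Coch) : Y.IsDeg n (O.ψ n x) := by
  refine ⟨fun a' γ h => Finset.sum_eq_zero fun a ha => ?_, fun a' => Finset.sum_eq_zero fun a _ => cup_nil _ _ _⟩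
  rw [Finset.mem_range] at ha
  have hl := length_liftL γ
  generalize liftL γ = β, Sys.loc x γ.toFinset a = f at hl ⊢
  suffices ∀ b (f : List {i // i ∈ γ.toFinset} → _) (β : List {i // i ∈ γ.toFinset}),
      a' + β.length ≠ a + 1 + b → cup (O.Q γ.toFinset a a') b f β = 0 from this _ _ _ (by omega)
  intro b
  induction b with
  | zero => intro f β hb; rcases β with - | ⟨i, β⟩ <;> simp [cup_zero, O.supp _ _ _ _ _ hb]
  | succ b ih =>
    intro f β hb
    rcases β with - | ⟨i, β⟩
    · simp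
    · exact ih _ β (by simp at hb; omega)

/-- The single-index part. -/
def Φ (s : Finset ι) (i : {i // i ∈ s}) (a : ℕ) : Y'.N s a →+ Y.N s a :=
  (Pi.evalAddMonoidHom _ [i]).comp (O.Q s a a)

/-- The hypothesis that the single-index parts compute the cohomology of the values in degrees `< p`. -/
def IsCartier (p : ℕ) : Prop :=
  ∀ (s : Finset ι) (i : {i // i ∈ s}), (∀ x, O.Φ s i 0 x = 0 → 0 < p → x = 0) ∧
    (∀ (a : ℕ) (x : Y'.N s (a + 1)) (w : Y.N s a), a + 1 < p → O.Φ s i (a + 1) x = Y.d s a w → x = 0) ∧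
    (∀ z : Y.N s 0, 0 < p → Y.d s 0 z = 0 → ∃ x, z = O.Φ s i 0 x) ∧
    (∀ (a : ℕ) (z : Y.N s (a + 1)), a + 1 < p → Y.d s (a + 1) z = 0 → ∃ x w, z = O.Φ s i (a + 1) x + Y.d s a w)

/-- On the shortest relevant lists only one term survives. -/
theorem ψ_apply_eq {n m : ℕ} {x : Y'.Coch} (hm : ∀ a γ, γ.length ≤ m → x a γ = 0) (a0 : ℕ) (hn : a0 + m + 1 = n)
    (γ : List ι) (hγ : γ.length = m + 1) (a' : ℕ) :
    O.ψ n x a' γ = O.Q γ.toFinset a0 a' (x a0 γ)
      [(liftL γ).getLast (List.ne_nil_of_length_pos (by rw [length_liftL]; omega))] := by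
  show ∑ a ∈ _, _ = _
  rw [Finset.sum_eq_single a0 (fun a ha hne => ?_) (fun h => absurd (Finset.mem_range.2 (by omega)) h),
    show n - 1 - a0 = m by omega, cup_of_length_eq _ _ _ _ (by rw [length_liftL, hγ]), Sys.loc_liftL]
  rw [Finset.mem_range] at ha
  rcases lt_or_gt_of_ne (show n - 1 - a ≠ m by omega) with h | h
  · exact (cup_congr _ _ _ (fun _ => 0) _ fun α hα => Sys.loc_eq_zero (hm a _ (by rw [List.length_map]; omega))).trans
      (cup_zero' _ _ _)
  · exact cup_of_length_le _ _ _ _ (by rw [length_liftL]; omega)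

theorem ψ_apply_eq_zero {n m : ℕ} {x : Y'.Coch} (hm : ∀ a γ, γ.length ≤ m → x a γ = 0) (a' : ℕ) (γ : List ι)
    (hγ : γ.length ≤ m) : O.ψ n x a' γ = 0 := by
  refine Finset.sum_eq_zero fun a _ => ?_
  rcases le_or_gt (liftL γ).length (n - 1 - a) with h | h
  · exact cup_of_length_le _ _ _ _ h
  · rw [length_liftL] at h
    exact (cup_congr _ _ _ (fun _ => 0) _ fun α hα => Sys.loc_eq_zero (hm a _ (by rw [List.length_map]; omega))).trans
      (cup_zero' _ _ _)

/-- A cochain concentrated on lists of one length and in one degree. -/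
def single (Z : Sys.{u} ι) (a0 m : ℕ) (z : ∀ γ : List ι, γ.length = m + 1 → Z.N γ.toFinset a0) : Z.Coch :=
  fun a γ => if h : a = a0 ∧ γ.length = m + 1 then h.1 ▸ z γ h.2 else 0

theorem isDeg_single (Z : Sys.{u} ι) (a0 m : ℕ) (z : ∀ γ : List ι, γ.length = m + 1 → Z.N γ.toFinset a0) :
    Z.IsDeg (a0 + m + 1) (single Z a0 m z) :=
  ⟨fun a γ h => dif_neg fun h' => h (by omega), fun a => dif_neg fun h' => by simp at h'⟩

theorem single_apply (Z : Sys.{u} ι) (a0 m : ℕ) (z : ∀ γ : List ι, γ.length = m + 1 → Z.N γ.toFinset a0)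
    (γ : List ι) (h : γ.length = m + 1) : single Z a0 m z a0 γ = z γ h := dif_pos ⟨rfl, h⟩

theorem single_low (Z : Sys.{u} ι) (a0 m : ℕ) (z : ∀ γ : List ι, γ.length = m + 1 → Z.N γ.toFinset a0)
    (a : ℕ) (γ : List ι) (h : γ.length ≤ m) : single Z a0 m z a γ = 0 := dif_neg fun h' => by omega

theorem D_low {m : ℕ} {y : Y.Coch} (hy : ∀ a γ, γ.length ≤ m → y a γ = 0) (a : ℕ) (γ : List ι) (hγ : γ.length ≤ m) :
    Sys.D y a γ = 0 := by
  have h0 : ∀ b, dlist (liftL γ) (Sys.loc y γ.toFinset b) = 0 := fun b =>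
    (dlist_congr _ _ (fun _ => 0) fun α hα =>
      Sys.loc_eq_zero (hy b _ (by rw [List.length_map]; rw [length_liftL] at hα; omega))).trans (dlist_zero _)
  show tot _ _ _ a = 0
  cases a with
  | zero => exact h0 0
  | succ a => rw [tot_succ, h0, Sys.loc_liftL, hy a γ hγ, map_zero, smul_zero, sub_zero]

/-- The values of `D y` on lists of the first nonzero length. -/
theorem D_apply_eq {m : ℕ} {y : Y.Coch} (hy : ∀ a γ, γ.length ≤ m → y a γ = 0) (a : ℕ) (γ : List ι)
    (hγ : γ.length = m + 1) : Sys.D y (a + 1) γ = -(sgn (m + 1) • Y.d γ.toFinset a (y a γ)) ∧ Sys.D y 0 γ = 0 := by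
  have h0 : ∀ b, dlist (liftL γ) (Sys.loc y γ.toFinset b) = 0 := fun b =>
    (dlist_congr _ _ (fun _ => 0) fun α hα =>
      Sys.loc_eq_zero (hy b _ (by rw [List.length_map]; rw [length_liftL] at hα; omega))).trans (dlist_zero _)
  refine ⟨?_, h0 0⟩
  show tot _ _ _ (a + 1) = _
  rw [tot_succ, h0, Sys.loc_liftL, zero_sub, length_liftL, hγ]

include O in
/-- **Injectivity**: a cocycle whose image is a coboundary is a coboundary, in degrees `< p`. -/
theorem exists_δ_eq {p : ℕ} (hO : O.IsCartier p) (l : ℕ) (hl : l < p) (x : Y'.Coch) (hx : Y'.IsDeg (l + 1) x)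
    (y : Y.Coch) (hy : Y.IsDeg l y) (h : O.ψ (l + 1) x = Sys.D y) : ∃ z : Y'.Coch, Y'.IsDeg l z ∧ Sys.δ z = x := by
  suffices ∀ k m x y, k + m = l + 1 → Y'.IsDeg (l + 1) x → Y.IsDeg l y → O.ψ (l + 1) x = Sys.D y →
      (∀ a γ, γ.length ≤ m → x a γ = 0) → (∀ a γ, γ.length ≤ m → y a γ = 0) →
        ∃ z : Y'.Coch, Y'.IsDeg l z ∧ Sys.δ z = x by
    refine this (l + 1) 0 x y rfl hx hy h (fun a γ hγ => ?_) (fun a γ hγ => ?_)
    · rw [List.length_eq_zero_iff.1 (Nat.le_zero.1 hγ)]; exact hx.2 a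
    · rw [List.length_eq_zero_iff.1 (Nat.le_zero.1 hγ)]; exact hy.2 a
  intro k
  induction k with
  | zero =>
    intro m x y hkm hx hy h hxm hym
    refine ⟨0, ⟨fun _ _ _ => rfl, fun _ => rfl⟩, ?_⟩
    have : x = 0 := funext fun a => funext fun γ => by
      by_cases hγ : γ.length ≤ m
      · exact hxm a γ hγ
      · exact hx.1 a γ (by omega)
    subst this
    funext a γ
    exact (dlist_congr _ _ (fun _ => 0) fun α _ => map_zero _).trans (dlist_zero _)
  | succ k ih =>
    intro m x y hkm hx hy h hxm hym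
    -- the degree of the components on lists of length `m + 1`
    obtain ⟨a0, ha0⟩ : ∃ a0, a0 + m = l := ⟨l - m, by omega⟩
    have hev : ∀ γ : List ι, ∀ hγ : γ.length = m + 1, ∀ a', O.Q γ.toFinset a0 a' (x a0 γ)
        [(liftL γ).getLast (List.ne_nil_of_length_pos (by rw [length_liftL]; omega))] = Sys.D y a' γ := fun γ hγ a' => by
      rw [← O.ψ_apply_eq (n := l + 1) hxm a0 (by omega) γ hγ a', h]
    have hx0 : ∀ γ : List ι, γ.length = m + 1 → x a0 γ = 0 := fun γ hγ => by
      obtain ⟨h1, h2, -, -⟩ := hO γ.toFinset ((liftL γ).getLast (List.ne_nil_of_length_pos (by rw [length_liftL]; omega)))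
      have e := hev γ hγ a0
      cases a0 with
      | zero => exact h1 _ (e.trans (D_apply_eq hym 0 γ hγ).2) (by omega)
      | succ b =>
        rw [(D_apply_eq hym b γ hγ).1, ← neg_smul, ← map_zsmul] at e
        exact h2 b _ _ (by omega) e
    have hxm' : ∀ a γ, γ.length ≤ m + 1 → x a γ = 0 := fun a γ hγ => by
      rcases Nat.lt_or_ge γ.length (m + 1) with h' | h'
      · exact hxm a γ (by omega)
      · by_cases ha : a = a0
        · subst ha; exact hx0 γ (by omega)
        · exact hx.1 a γ (by omega)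
    cases a0 with
    | zero =>
      refine ih (m + 1) x y (by omega) hx hy h hxm' fun a γ hγ => ?_
      rcases Nat.lt_or_ge γ.length (m + 1) with h' | h'
      · exact hym a γ (by omega)
      · exact hy.1 a γ (by omega)
    | succ b =>
      have hyc : ∀ γ : List ι, γ.length = m + 1 → Y.d γ.toFinset b (y b γ) = 0 := fun γ hγ => by
        have e := hev γ hγ (b + 1)
        rw [hx0 γ hγ, map_zero, (D_apply_eq hym b γ hγ).1, Pi.zero_apply] at e
        have e2 := congrArg (fun t => sgn (m + 1) • t) e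
        simp only [smul_zero, smul_neg, smul_smul, sgn_mul_self, one_smul] at e2
        exact neg_eq_zero.1 e2.symm
      -- choose the correction
      obtain ⟨z, w, hz, hw, hwm, hzw⟩ : ∃ (z : Y'.Coch) (w : Y.Coch), Y'.IsDeg l z ∧ Y.IsDeg (l - 1) w ∧
          (∀ a γ, γ.length ≤ m → w a γ = 0) ∧ (∀ a γ, γ.length ≤ m → z a γ = 0) ∧
          (l = 0 → w = 0) ∧
          ∀ γ : List ι, γ.length = m + 1 → O.ψ l z b γ + Sys.D w b γ = y b γ := by
        cases b with
        | zero =>
          choose zc hzc using fun (γ : List ι) (hγ : γ.length = m + 1) => (hO γ.toFinset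
            ((liftL γ).getLast (List.ne_nil_of_length_pos (by rw [length_liftL]; omega)))).2.2.1 (y 0 γ) (by omega) (hyc γ hγ)
          refine ⟨single Y' 0 m zc, 0, ?_, ⟨fun _ _ _ => rfl, fun _ => rfl⟩, fun _ _ _ => rfl,
            single_low _ _ _ _, fun _ => rfl, fun γ hγ => ?_⟩
          · have e := isDeg_single Y' 0 m zc
            rwa [show 0 + m + 1 = l by omega] at e
          · rw [O.ψ_apply_eq (single_low _ _ _ _) 0 (by omega) γ hγ, single_apply _ _ _ _ γ hγ]
            rw [show Sys.D (0 : Y.Coch) 0 γ = 0 from D_low (m := γ.length) (fun _ _ _ => rfl) 0 γ le_rfl, add_zero]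
            exact (hzc γ hγ).symm
        | succ c =>
          choose zc wc hzc using fun (γ : List ι) (hγ : γ.length = m + 1) => (hO γ.toFinset
            ((liftL γ).getLast (List.ne_nil_of_length_pos (by rw [length_liftL]; omega)))).2.2.2 c (y (c + 1) γ)
              (by omega) (hyc γ hγ)
          refine ⟨single Y' (c + 1) m zc, single Y c m fun γ hγ => -(sgn (m + 1) • wc γ hγ), ?_, ?_,
            single_low _ _ _ _, single_low _ _ _ _, fun h0 => by omega, fun γ hγ => ?_⟩
          · have e := isDeg_single Y' (c + 1) m zc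
            rwa [show c + 1 + m + 1 = l by omega] at e
          · have e := isDeg_single Y c m fun γ hγ => -(sgn (m + 1) • wc γ hγ)
            rwa [show c + m + 1 = l - 1 by omega] at e
          · rw [O.ψ_apply_eq (single_low _ _ _ _) (c + 1) (by omega) γ hγ, single_apply _ _ _ _ γ hγ,
              (D_apply_eq (single_low _ _ _ _) c γ hγ).1, single_apply _ _ _ _ γ hγ, map_neg, map_zsmul, smul_neg,
              neg_neg, smul_smul, sgn_mul_self, one_smul]
            exact (hzc γ hγ).symm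
      obtain ⟨hzm, hw0, hzw⟩ := hzw
      have hDw : Y.IsDeg l (Sys.D w) := by
        rcases Nat.eq_zero_or_pos l with h0 | h0
        · omega
        · have e := Sys.isDeg_D hw
          rwa [show l - 1 + 1 = l by omega] at e
      have hnew : O.ψ (l + 1) (x + -Sys.δ z) = Sys.D (y + -(O.ψ l z + Sys.D w)) := by
        have hψn : O.ψ (l + 1) (x + -Sys.δ z) = O.ψ (l + 1) x + -O.ψ (l + 1) (Sys.δ z) := by
          let F := AddMonoidHom.mk' (O.ψ (l + 1)) (O.ψ_add (l + 1))
          exact (map_add F x _).trans (congrArg _ (map_neg F _))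
        rw [hψn, h, ← O.D_ψ l hz]
        let F := AddMonoidHom.mk' (Sys.D (Y := Y)) Sys.D_add
        show F y + -F _ = F _
        rw [map_add F y, map_neg, map_add F (O.ψ l z), show F (Sys.D w) = 0 from Sys.D_D, add_zero]
      have hnx : ∀ a γ, γ.length ≤ m + 1 → (x + -Sys.δ z) a γ = 0 := by
        intro a γ hγ
        show x a γ + -Sys.δ z a γ = 0
        rw [hxm' a γ hγ, zero_add, neg_eq_zero]
        exact (dlist_congr _ _ (fun _ => 0) fun α hα =>
          Sys.loc_eq_zero (hzm a _ (by rw [List.length_map]; rw [length_liftL] at hα; omega))).trans (dlist_zero _)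
      have hny : ∀ a γ, γ.length ≤ m + 1 → (y + -(O.ψ l z + Sys.D w)) a γ = 0 := by
        intro a γ hγ
        show y a γ + -(O.ψ l z a γ + Sys.D w a γ) = 0
        rcases Nat.lt_or_ge γ.length (m + 1) with h' | h'
        · rw [hym a γ (by omega), O.ψ_apply_eq_zero hzm a γ (by omega), D_low hwm a γ (by omega)]
          simp
        · by_cases ha : a = b
          · subst ha
            rw [hzw γ (by omega), add_neg_cancel]
          · rw [hy.1 a γ (by omega), (O.isDeg_ψ l z).1 a γ (by omega), hDw.1 a γ (by omega)]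
            simp
      obtain ⟨z', hz', hz'e⟩ := ih (m + 1) (x + -Sys.δ z) (y + -(O.ψ l z + Sys.D w)) (by omega)
        (Sys.isDeg_add hx (Sys.isDeg_neg (Sys.isDeg_δ hz)))
        (Sys.isDeg_add hy (Sys.isDeg_neg (Sys.isDeg_add (O.isDeg_ψ l z) hDw))) hnew hnx hny
      exact ⟨z' + z, Sys.isDeg_add hz' hz, by rw [Sys.δ_add, hz'e]; exact neg_add_cancel_right x _⟩

end Op

end Groth.Agent.H27DI
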